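import Cfsg.Agent.H304.Ela.Orth
import Cfsg.Agent.H198.TriInn
import Cfsg.Agent.S2607
import Cfsg.Agent.S2608

/-!
# `PΩ^+_8(q)`: the semilinear automorphisms have index three (helper304, for S3553)
-/

set_option autoImplicit false
set_option linter.style.haveILetI false
set_option linter.unusedSectionVars false

namespace Cfsg.Agent.H304.Ela

open Module QuadraticMap Cfsg
open Cfsg.Agent.H198.OrthFrame Cfsg.Agent.ClassicalGeometry.OrthSemi Cfsg.Agent.H198.Carriers
open Cfsg.Agent.LieClassical.OrthTrans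
open scoped Matrix

variable {F : Type} [Field F] [Fintype F]

/-- the automorphisms induced by semisimilarities -/
theorem semi_of_range {ι : Type} [Fintype ι] [DecidableEq ι] {Q : QuadraticForm F (ι → F)} (hG : Good Q)
    {α : MulAut (POmega F ⇑Q)} (h : α ∈ (Phi hG).range) : Semi (⇑Q) α := by
  obtain ⟨⟨M, hM⟩, rfl⟩ := h
  obtain ⟨σ, c, hc⟩ := hM
  obtain ⟨g, rfl, hg, -⟩ := exists_perm hc
  exact ⟨g, σ, hg, (induced_iff hG hg _).2 rfl⟩

theorem conj_mem_range {ι : Type} [Fintype ι] [DecidableEq ι] {Q : QuadraticForm F (ι → F)} (hG : Good Q)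
    (x : POmega F ⇑Q) : MulAut.conj x ∈ (Phi hG).range := by
  obtain ⟨s, rfl⟩ := QuotientGroup.mk_surjective x
  have hs : IsSemisimilarityPair (⇑Q) ((s : isometryGroup F ⇑Q) : GL ι F) (RingEquiv.refl F) := by
    refine ⟨1, fun v => ?_⟩
    have h1 := LieClassical.OrthFinite.mem_isometryGroup_iff.1 (s : isometryGroup F ⇑Q).2
    rw [Units.val_one, one_mul]
    exact h1 v
  refine ⟨⟨_, perm_mem_Gam hs⟩, ?_⟩
  rw [eq_comm, ← induced_iff hG hs]
  intro t t' h
  rw [MulAut.conj_apply]
  change QuotientGroup.mk (s * t * s⁻¹) = _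
  congr 1
  apply Subtype.ext
  apply Subtype.ext
  apply Units.ext
  rw [h]
  have h2 : ((((t : isometryGroup F ⇑Q) : GL ι F) : Matrix ι ι F)).map (RingEquiv.refl F) =
      (((t : isometryGroup F ⇑Q) : GL ι F) : Matrix ι ι F) := by
    ext i j
    rfl
  rw [h2]
  rfl

theorem index_range {Q : QuadraticForm F (Fin 4 ⊕ Fin 4 → F)} {hG : Good Q} {hN : H198.Classes.Neutral Q 4}
    {ρ : MulAut (POmega F ⇑Q)} (hρ : H198.TriInn.TriData hG hN ρ) : (Phi hG).range.index = 3 := by
  have hsq : ρ ^ 2 ∉ (Phi hG).range := by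
    intro h
    apply hρ.not_mem
    have h1 : ρ = ρ ^ 2 * ρ ^ 2 := by
      rw [← pow_add, show 2 + 2 = 3 + 1 by norm_num, pow_succ, hρ.cube, one_mul]
    rw [h1]
    exact mul_mem h h
  let f : Fin 3 → MulAut (POmega F ⇑Q) ⧸ (Phi hG).range := fun i => QuotientGroup.mk (ρ ^ (i : ℕ))
  have hf : Function.Bijective f := by
    constructor
    · have key : ∀ i j : Fin 3, (i : ℕ) < j → f i ≠ f j := by
        intro i j hij h
        have h1 := QuotientGroup.eq.1 h
        have h2 : (ρ ^ (i : ℕ))⁻¹ * ρ ^ (j : ℕ) = ρ ^ ((j : ℕ) - i) := by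
          rw [inv_mul_eq_iff_eq_mul, ← pow_add]
          congr 1
          omega
        rw [h2] at h1
        have hj := j.2
        have h3 : (j : ℕ) - i = 1 ∨ (j : ℕ) - i = 2 := by omega
        rcases h3 with h3 | h3
        · rw [h3, pow_one] at h1
          exact hρ.not_mem h1
        · rw [h3] at h1
          exact hsq h1
      intro i j h
      rcases lt_trichotomy (i : ℕ) j with h1 | h1 | h1
      · exact absurd h (key i j h1)
      · exact Fin.ext h1
      · exact absurd h.symm (key j i h1)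
    · intro x
      obtain ⟨α, rfl⟩ := QuotientGroup.mk_surjective x
      obtain ⟨i, M, hi, rfl⟩ := hρ.cases α
      refine ⟨⟨i, hi⟩, ?_⟩
      apply QuotientGroup.eq.2
      rw [inv_mul_cancel_left]
      exact ⟨M, rfl⟩
  have h1 := Nat.card_congr (Equiv.ofBijective f hf)
  rw [Nat.card_eq_fintype_card, Fintype.card_fin] at h1
  exact h1.symm

/-- the order of the outer automorphism group -/
theorem card_out_o8 {p f : ℕ} (hp : p.Prime) (hf : 1 ≤ f) (hF : Fintype.card F = p ^ f) :
    Nat.card (Cfsg.Out (POmega F (quadFormPlus 4 F))) = 6 * f ∨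
      Nat.card (Cfsg.Out (POmega F (quadFormPlus 4 F))) = 24 * f := by
  haveI : Fact p.Prime := ⟨hp⟩
  haveI : NeZero f := ⟨by omega⟩
  by_cases h2 : p = 2
  · subst h2
    have h := S2607.result hf hF (m := 4) le_rfl
    rw [if_pos rfl] at h
    obtain ⟨e⟩ := h
    left
    rw [Nat.card_congr e.toEquiv, Nat.card_prod, Nat.card_perm, Nat.card_eq_fintype_card, Fintype.card_fin,
      Nat.card_congr Multiplicative.toAdd, Nat.card_zmod]
    rfl
  · have h := S2608.result hf hF h2 (m := 4) le_rfl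
    rw [if_pos rfl] at h
    obtain ⟨e⟩ := h
    right
    rw [Nat.card_congr e.toEquiv, Nat.card_prod, Nat.card_perm, Nat.card_eq_fintype_card, Fintype.card_fin,
      Nat.card_congr Multiplicative.toAdd, Nat.card_zmod]
    rfl

end Cfsg.Agent.H304.Ela
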