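import Cfsg.Agent.H304.Ela.Rows

/-!
# Geometric rows for the orthogonal groups, automorphism version (helper304, for S3553)
-/

set_option autoImplicit false
set_option linter.unusedSectionVars false

namespace Cfsg.Agent.H304.Ela

open Module QuadraticMap Cfsg Cfsg.Geo Cfsg.Agent.LieClassical Cfsg.Agent.LieClassical.OmegaReindex Cfsg.Agent.H955
open Cfsg.Agent.H884.El
open Cfsg.Agent.H396 (Der)

universe u

section S

variable {F : Type u} [Field F] [Fintype F]

theorem geo_plusS {m : ℕ} (hm : 4 ≤ m) (M : Subgroup (POmega F (quadFormPlus m F))) :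
    DerS (quadFormPlus m F) M ∨ InOrthogonalResidualClass (pre (quadFormPlus m F) M) := by
  have h : ∀ M : Subgroup (POmega F (⇑(quadPlus m F))),
      DerS (⇑(quadPlus m F)) M ∨ InOrthogonalResidualClass (pre (⇑(quadPlus m F)) M) := by
    by_cases hexc : Nat.card F = 2 ∧ m = 4
    · obtain ⟨hF, rfl⟩ := hexc
      exact eight_derS hF (card_plus 4) (nondeg_iff.2 quadPlus_nondegenerate) (isPlus_quadPlus 4) (data_plus le_rfl)
    · exact plus_derS hm (card_plus m) (nondeg_iff.2 quadPlus_nondegenerate) (isPlus_quadPlus m) hexc (data_plus hm)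
  rw [coe_quadPlus] at h
  exact h M

theorem geo_oddS {m : ℕ} (hm : 3 ≤ m) (hodd : Odd (Fintype.card F)) (M : Subgroup (POmega F (quadFormOdd m F))) :
    DerS (quadFormOdd m F) M ∨ InOrthogonalResidualClass (pre (quadFormOdd m F) M) := by
  have h2 := H390.two_ne_zero_of_odd hodd
  have h : ∀ M : Subgroup (POmega F (⇑(quadOdd m F))),
      DerS (⇑(quadOdd m F)) M ∨ InOrthogonalResidualClass (pre (⇑(quadOdd m F)) M) :=
    odd_derS h2 hm (card_odd m) (nondeg_iff.2 (quadOdd_nondegenerate h2)) (data_odd hm h2)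
  rw [coe_quadOdd] at h
  exact h M

end S

section A

variable {F : Type} [Field F] [Fintype F]

/-- `PΩ_{2m+1}(q)`, `q` odd, `m ≥ 3`. -/
theorem geo_oddA {m : ℕ} (hm : 3 ≤ m) (hodd : Odd (Fintype.card F)) (M : Subgroup (POmega F (quadFormOdd m F))) :
    Der (POmega F (quadFormOdd m F)) M ∨ InOrthogonalResidualClass (pre (quadFormOdd m F) M) :=
  (geo_oddS hm hodd M).imp_left fun h => h.der (semi_odd hm (H390.two_ne_zero_of_odd hodd))

/-- `PΩ⁺_{2m}(q)`, `m ≥ 5`. -/
theorem geo_plusA {m : ℕ} (hm : 5 ≤ m) (M : Subgroup (POmega F (quadFormPlus m F))) :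
    Der (POmega F (quadFormPlus m F)) M ∨ InOrthogonalResidualClass (pre (quadFormPlus m F) M) :=
  (geo_plusS (by omega) M).imp_left fun h => h.der (semi_plus hm)

/-- `PΩ⁻_{2m}(q)`, `m ≥ 4`. -/
theorem geo_minusA {m : ℕ} (hm : 4 ≤ m) {a b : F}
    (hab : ∀ z₁ z₂ : F, z₁ ^ 2 + a * z₁ * z₂ + b * z₂ ^ 2 = 0 → z₁ = 0 ∧ z₂ = 0)
    (M : Subgroup (POmega F (quadFormMinus (m - 1) F a b))) :
    Der (POmega F (quadFormMinus (m - 1) F a b)) M ∨
      InOrthogonalResidualClass (pre (quadFormMinus (m - 1) F a b) M) :=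
  (geo_minus hm hab M).imp_left fun h => h.derA

end A

end Cfsg.Agent.H304.Ela
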