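import Cfsg.Agent.H304.Ela.Cyc

/-!
# Symplectic groups: subgroups with cyclic Sylow `r`-subgroups (helper304, for S3553)
-/

set_option autoImplicit false
set_option linter.unusedSectionVars false
set_option linter.style.haveILetI false

namespace Cfsg.Agent.H304.Ela

open Cfsg Cfsg.Agent.OrdDiv Cfsg.Agent.H436 Cfsg.Agent.H915.GN Cfsg.Agent.H264.GN Cfsg.Agent.H200.LinFix Module
  Cfsg.Agent.LieClassical.OmegaReindex Cfsg.Agent.H264.FKS
open Cfsg.Agent.H396 (Der)
open ClassicalGeometry.SympBasic (mem_symplecticGroup_iff)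

universe u v

section gen

variable {F : Type u} [Field F] {m : ℕ}

/-- the inclusion of the symplectic group in the linear group -/
def ss (m : ℕ) (F : Type u) [Field F] :
    Matrix.symplecticGroup (Fin m) F →* Matrix.GeneralLinearGroup (Fin m ⊕ Fin m) F :=
  MonoidHom.toHomUnits (Matrix.symplecticGroup (Fin m) F).subtype

theorem ss_injective : Function.Injective (ss m F) := fun _ _ hab => Subtype.ext (congrArg Units.val hab)

theorem coe_ss (y : Matrix.symplecticGroup (Fin m) F) :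
    ((ss m F y : GL (Fin m ⊕ Fin m) F) : Matrix (Fin m ⊕ Fin m) (Fin m ⊕ Fin m) F) = y := rfl

/-- a semisimilitude conjugates symplectic matrices to symplectic matrices -/
theorem conj_mem_symp {A : GL (Fin m ⊕ Fin m) F} (hA : A ∈ GSp m F) (τ : F ≃+* F)
    (y : Matrix.symplecticGroup (Fin m) F) :
    ((A * mp τ (ss m F y) * A⁻¹ : GL (Fin m ⊕ Fin m) F) : Matrix (Fin m ⊕ Fin m) (Fin m ⊕ Fin m) F) ∈
      Matrix.symplecticGroup (Fin m) F := by
  obtain ⟨l, hl⟩ := hA
  have hy := mem_symplecticGroup_iff.1 y.2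
  rw [mem_symplecticGroup_iff]
  have hsur : ∀ w : Fin m ⊕ Fin m → F, ∃ v : Fin m ⊕ Fin m → F,
      (A : Matrix (Fin m ⊕ Fin m) (Fin m ⊕ Fin m) F).mulVec (fun i => τ (v i)) = w := by
    intro w
    refine ⟨fun i => τ.symm ((((A⁻¹ : GL (Fin m ⊕ Fin m) F) : Matrix _ _ F).mulVec w) i), ?_⟩
    simp only [RingEquiv.apply_symm_apply]
    rw [Matrix.mulVec_mulVec, ← Units.val_mul, mul_inv_cancel, Units.val_one, Matrix.one_mulVec]
  have key : ∀ v : Fin m ⊕ Fin m → F,
      ((A * mp τ (ss m F y) * A⁻¹ : GL (Fin m ⊕ Fin m) F) : Matrix (Fin m ⊕ Fin m) (Fin m ⊕ Fin m) F).mulVec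
        ((A : Matrix (Fin m ⊕ Fin m) (Fin m ⊕ Fin m) F).mulVec (fun i => τ (v i))) =
      (A : Matrix (Fin m ⊕ Fin m) (Fin m ⊕ Fin m) F).mulVec (fun i => τ (((y : Matrix (Fin m ⊕ Fin m) (Fin m ⊕ Fin m) F).mulVec v) i)) := by
    intro v
    rw [Matrix.mulVec_mulVec, ← Units.val_mul, inv_mul_cancel_right, Units.val_mul, ← Matrix.mulVec_mulVec, mulVec_mp,
      coe_ss]
  intro u v
  obtain ⟨u, rfl⟩ := hsur u
  obtain ⟨v, rfl⟩ := hsur v
  rw [key, key, hl, hl, H198.SympGamma.sympForm_map, H198.SympGamma.sympForm_map, hy]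

end gen

section

variable {F : Type} [Field F] [Fintype F] {m : ℕ}

theorem lin_ss (y : Matrix.symplecticGroup (Fin m) F) : lin (ss m F) y = H884.El.lin (ss m F y) := by
  ext v
  rfl

theorem semi_lift_psp (hm : 2 ≤ m) (h : 3 ≤ m ∨ (2 : F) ≠ 0) {r : ℕ}
    (α : MulAut (PSp m F)) {y : Matrix.symplecticGroup (Fin m) F} (hy : orderOf y = r) :
    ∃ y' : Matrix.symplecticGroup (Fin m) F, orderOf y' = r ∧
      α (QuotientGroup.mk' (Subgroup.center (Matrix.symplecticGroup (Fin m) F)) y) = QuotientGroup.mk' _ y' ∧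
      finrank F (K (lin (ss m F) y')) = finrank F (K (lin (ss m F) y)) := by
  obtain ⟨A, τ, hA, hind⟩ := H198.SympGamma.exists_pair hm h α
  let y' : Matrix.symplecticGroup (Fin m) F := ⟨_, conj_mem_symp hA τ y⟩
  have hy' : ss m F y' = A * mp τ (ss m F y) * A⁻¹ := Units.ext rfl
  refine ⟨y', ?_, hind y y' ?_, ?_⟩
  · rw [← orderOf_injective (ss m F) ss_injective, hy', ← MulAut.conj_apply, MulEquiv.orderOf_eq,
      orderOf_injective (mp τ) (mp_injective τ), orderOf_injective (ss m F) ss_injective, hy]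
  · rw [← coe_ss y', hy', Units.val_mul, Units.val_mul, coe_mp, coe_ss]
  · rw [lin_ss, lin_ss, hy', finrank_K_semi]

theorem der_psp {n r : ℕ} (hr : Prim (Nat.card F) n r) (hn : 2 ≤ n) (h : 3 ≤ n ∨ (2 : F) ≠ 0) (he : n % 2 = 0)
    (R : Subgroup (PSp n F)) (hR : Cyc r R) : Der (PSp n F) R := by
  have hq : 2 ≤ Nat.card F := Finite.one_lt_card
  obtain ⟨b, hb, hb'⟩ := exists_pow (D := 1) (c := Nat.card (Matrix.symplecticGroup (Fin n) F)) hr hn hq
    (fun h => hr.prime.one_lt.ne' (Nat.dvd_one.1 h)) (by rw [one_mul]) (by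
      rw [S0245.result (F := F) rfl n, ← Nat.card_eq_fintype_card]
      refine Dvd.dvd.mul_left ?_ _
      have := prod_dvd (q := Nat.card F) hn he
      rwa [prB_eq] at this)
  obtain ⟨x, hx, hx'⟩ := exists_of_cyc (ss n F) ss_injective
    (QuotientGroup.mk' (Subgroup.center (Matrix.symplecticGroup (Fin n) F)))
    (QuotientGroup.mk'_surjective _) (fun k hk => by
      have h1 := (QuotientGroup.eq_one_iff k).1 hk
      exact (LieClassical.SympCenter.mem_center_iff n k).1 h1) hr hn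
    (by rw [Fintype.card_sum, Fintype.card_fin]; omega) hb hb' (fun _ => True)
    (fun α _ y hy => semi_lift_psp hn h α hy) R hR
  exact ⟨x, hx, fun α => hx' α trivial⟩

end

theorem der_named_psp {T : Type u} [Group T] {n q r : ℕ} (hT : IsNamed (.psp n q) T) (hr : Prim q n r) (hn : 2 ≤ n)
    (h : 3 ≤ n ∨ Odd q) (he : n % 2 = 0) (R : Subgroup T) (hR : Cyc r R) : Der T R := by
  obtain ⟨F, _, _, hF, ⟨Φ⟩⟩ := hT.real
  rw [← hF, ← Nat.card_eq_fintype_card] at hr
  refine (der_psp hr hn (h.imp_right fun ho => ?_) he _ (cyc_comap hR Φ.symm)).congr Φ.symm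
  exact H390.two_ne_zero_of_odd (by rw [hF]; exact ho)

/-! ### `n = 6`, `q = 2` -/

section Six

variable {F : Type} [Field F] [Fintype F]

theorem der_six_plus (hF : Nat.card F = 2) (R : Subgroup (POmega F (quadFormPlus 6 F))) (hR : Cyc 7 R) :
    Der (POmega F (quadFormPlus 6 F)) R := by
  have key : ∀ (R : Subgroup (POmega F (⇑(quadPlus 6 F)))), Cyc 7 R → DerS (⇑(quadPlus 6 F)) R := by
    intro R hR
    obtain ⟨g₁, h1, g₂, h2, h1r, h1n, h2r, h2n, hne⟩ := exists_seven hF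
    haveI : Fact (Nat.Prime 7) := ⟨by norm_num⟩
    have hc : Fintype.card (Fin 6 ⊕ Fin 6) = 12 := by simp
    obtain ⟨y₁, hy₁⟩ := H884.El.exists_omega (H884.El.data_plus (by norm_num)) h1 (by decide) h1r
    obtain ⟨y₂, hy₂⟩ := H884.El.exists_omega (H884.El.data_plus (by norm_num)) h2 (by decide) h2r
    have ho : ∀ {y : Omega F (⇑(quadPlus 6 F))} {g : Matrix.GeneralLinearGroup (Fin 6 ⊕ Fin 6) F},
        sg (quadPlus 6 F) y = g → g ^ 7 = 1 → g ≠ 1 → orderOf y = 7 := fun {y g} hy h3 h4 => by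
      rw [← orderOf_injective (sg (quadPlus 6 F)) (sg_injective _), hy]
      exact orderOf_eq_prime h3 h4
    refine exists_of_two (sg (quadPlus 6 F)) (sg_injective _)
      (QuotientGroup.mk' (Subgroup.center (Omega F (⇑(quadPlus 6 F)))))
      (QuotientGroup.mk'_surjective _) (fun k hk => ?_) (prim_seven hF) (by norm_num) (ho hy₁ h1r h1n)
      (ho hy₂ h2r h2n) ?_ (Semi (⇑(quadPlus 6 F)))
      (fun α hα y hy => semi_lift (H884.El.data_plus (by norm_num)) (by norm_num) (by norm_num) hα hy) R hR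
    · have h5 := (QuotientGroup.eq_one_iff k).1 hk
      rcases (LieClassical.OmegaCenter.mem_center_omega_iff (quadPlus 6 F) quadPlus_nondegenerate
        (by rw [hc]; norm_num) (quadPlus_isotropic (by norm_num)) k).1 h5 with h6 | h6
      · exact ⟨1, by rw [one_smul]; exact h6⟩
      · exact ⟨-1, by rw [neg_one_smul]; exact h6⟩
    · rw [lin_sg, lin_sg, hy₁, hy₂]
      exact hne
  rw [coe_quadPlus] at key
  exact (key R hR).der (semi_plus (by norm_num))

theorem der_six_symp (hF : Nat.card F = 2) (R : Subgroup (PSp 6 F)) (hR : Cyc 7 R) : Der (PSp 6 F) R := by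
  obtain ⟨g₁, h1, g₂, h2, h1r, h1n, h2r, h2n, hne⟩ := exists_seven hF
  haveI : Fact (Nat.Prime 7) := ⟨by norm_num⟩
  have ho : ∀ {y : Matrix.symplecticGroup (Fin 6) F} {g : Matrix.GeneralLinearGroup (Fin 6 ⊕ Fin 6) F},
      ss 6 F y = g → g ^ 7 = 1 → g ≠ 1 → orderOf y = 7 := fun {y g} hy h3 h4 => by
    rw [← orderOf_injective (ss 6 F) ss_injective, hy]
    exact orderOf_eq_prime h3 h4
  have hy : ∀ {g : Matrix.GeneralLinearGroup (Fin 6 ⊕ Fin 6) F} (hg : g ∈ isometryGroup F (⇑(quadPlus 6 F))),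
      ss 6 F ⟨(g : Matrix _ _ F), mem_symp hF hg⟩ = g := fun {g} hg => Units.ext rfl
  obtain ⟨x, hx, hx'⟩ := exists_of_two (ss 6 F) ss_injective
    (QuotientGroup.mk' (Subgroup.center (Matrix.symplecticGroup (Fin 6) F)))
    (QuotientGroup.mk'_surjective _) (fun k hk => by
      have h1 := (QuotientGroup.eq_one_iff k).1 hk
      exact (LieClassical.SympCenter.mem_center_iff 6 k).1 h1) (prim_seven hF) (by norm_num) (ho (hy h1) h1r h1n)
    (ho (hy h2) h2r h2n) (by rw [lin_ss, lin_ss, hy h1, hy h2]; exact hne) (fun _ => True)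
    (fun α _ y hy => semi_lift_psp (by norm_num) (Or.inl (by norm_num)) α hy) R hR
  exact ⟨x, hx, fun α => hx' α trivial⟩

end Six

theorem der_named_six_plus {T : Type u} [Group T] (hT : IsNamed (.oplus 6 (2 ^ 1)) T) (R : Subgroup T)
    (hR : Cyc 7 R) : Der T R := by
  obtain ⟨F, _, _, hF, ⟨Φ⟩⟩ := hT.real
  exact (der_six_plus (card_two_of hF rfl) _ (cyc_comap hR Φ.symm)).congr Φ.symm

theorem der_named_six_symp {T : Type u} [Group T] (hT : IsNamed (.psp 6 (2 ^ 1)) T) (R : Subgroup T)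
    (hR : Cyc 7 R) : Der T R := by
  obtain ⟨F, _, _, hF, ⟨Φ⟩⟩ := hT.real
  exact (der_six_symp (card_two_of hF rfl) _ (cyc_comap hR Φ.symm)).congr Φ.symm

end Cfsg.Agent.H304.Ela
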