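import Cfsg.Agent.H262.ElSympRes
import Cfsg.Agent.H304.Ela.Psp

/-!
# Geometric classes of `Sp_2m(q)`: no semilinear image (helper304, for S3553)

After `H262/ElSymp`, `ElSympGeo`, `ElSympSix`, `ElSympPSp`, `ElSympRes` (helper262), with all semilinear images instead of the
`Sp`-conjugates.
-/

set_option autoImplicit false

namespace Cfsg.Agent.H304.Ela.Sp

open Cfsg Cfsg.Geo Module
open Cfsg.Agent.ClassicalGeometry.SympBasic Cfsg.Agent.H876 Cfsg.Agent.H931
open Cfsg.Agent.H262.El hiding Kill kill_of_prime kill_of_tv kill_of_noFix kill_quad kill_field kill_tensor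
  kill_symplecticType kill_of_irr kill_class kill_class_six kill_class' kill_of_core
open scoped Matrix MatrixGroups

variable {F : Type*} [Field F] {m : ℕ}

/-- some element of prime order of `Sp_2m(q)` has no semilinear image in `H` -/
def KillA (m : ℕ) (F : Type*) [Field F] (H : Subgroup (GL (Fin m ⊕ Fin m) F)) : Prop :=
  ∃ x ∈ spGL m F, ∃ r : ℕ, r.Prime ∧ x ^ r = 1 ∧ ∀ g ∈ GSp m F, ∀ τ : F ≃+* F, g * mp τ x * g⁻¹ ∉ H

theorem KillA.mono {H K : Subgroup (GL (Fin m ⊕ Fin m) F)} (h : KillA m F K) (hHK : H ≤ K) : KillA m F H := by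
  obtain ⟨x, hx, r, hr, hxr, h⟩ := h
  exact ⟨x, hx, r, hr, hxr, fun g hg τ hm => h g hg τ (hHK hm)⟩

/-- semilinear images of symplectic matrices are symplectic -/
theorem semi_mem {g : GL (Fin m ⊕ Fin m) F} (hg : g ∈ GSp m F) (τ : F ≃+* F) {x : GL (Fin m ⊕ Fin m) F}
    (hx : x ∈ spGL m F) : g * mp τ x * g⁻¹ ∈ spGL m F := by
  obtain ⟨A, rfl⟩ := exists_spToGL hx
  have h1 : spToGL m F A = ss m F A := Units.ext rfl
  rw [h1]
  have h2 := conj_mem_symp hg τ A
  have h3 : g * mp τ (ss m F A) * g⁻¹ = spToGL m F ⟨_, h2⟩ := Units.ext rfl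
  rw [h3]
  exact spToGL_mem _

theorem semi_pow (g : GL (Fin m ⊕ Fin m) F) (τ : F ≃+* F) {x : GL (Fin m ⊕ Fin m) F} {r : ℕ} (hxr : x ^ r = 1) :
    (g * mp τ x * g⁻¹) ^ r = 1 := by
  rw [conj_pow, ← map_pow, hxr, map_one, mul_one, mul_inv_cancel]

theorem killA_of_prime [Finite F] {H : Subgroup (GL (Fin m ⊕ Fin m) F)} {r : ℕ} (hr : r.Prime)
    (hd : r ∣ Nat.card (spGL m F)) (h : ∀ y ∈ spGL m F, y ^ r = 1 → y ≠ 1 → y ∉ H) : KillA m F H := by
  have := Fact.mk hr
  obtain ⟨x, hx⟩ := exists_prime_orderOf_dvd_card' (G := spGL m F) r hd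
  have hxr : (x : GL (Fin m ⊕ Fin m) F) ^ r = 1 := by
    have h1 : x ^ r = 1 := by rw [← hx, pow_orderOf_eq_one]
    have h2 := congrArg Subtype.val h1
    simpa using h2
  have hx1 : (x : GL (Fin m ⊕ Fin m) F) ≠ 1 := by
    intro h1
    have : x = 1 := Subtype.ext h1
    rw [this, orderOf_one] at hx
    exact hr.one_lt.ne hx
  refine ⟨x, x.2, r, hr, hxr, fun g hg τ => h _ (semi_mem hg τ x.2) (semi_pow g τ hxr) ?_⟩
  intro h1
  exact hx1 (mp_injective τ ((conj_eq_one_iff.1 h1).trans (map_one (mp τ)).symm))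

theorem isTv_mp {g : GL (Fin m ⊕ Fin m) F} (hg : IsTv g) (τ : F ≃+* F) : IsTv (mp τ g) := by
  obtain ⟨u, w, hu, hw, huw, h⟩ := hg
  refine ⟨fun i => τ (u i), fun i => τ (w i), ?_, ?_, ?_, ?_⟩
  · intro h0
    apply hu
    ext i
    have := congrFun h0 i
    exact τ.injective (this.trans (map_zero τ).symm)
  · intro h0
    apply hw
    ext i
    have := congrFun h0 i
    exact τ.injective (this.trans (map_zero τ).symm)
  · have h1 : (fun i => τ (w i)) ⬝ᵥ (fun i => τ (u i)) = τ (w ⬝ᵥ u) := by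
      simp [dotProduct, map_sum, map_mul]
    rw [h1, huw, map_zero]
  · rw [coe_mp, h]
    ext i j
    simp [Matrix.vecMulVec, Matrix.one_apply, apply_ite τ]

theorem killA_of_tv [Finite F] (hm : 1 ≤ m) {H : Subgroup (GL (Fin m ⊕ Fin m) F)}
    (h : ∀ y ∈ spGL m F, IsTv y → y ∉ H) : KillA m F H := by
  obtain ⟨p, hp⟩ := CharP.exists F
  have hpp : p.Prime := CharP.char_is_prime F p
  have hv0 : (Pi.single (Sum.inl ⟨0, by omega⟩) 1 : Fin m ⊕ Fin m → F) ≠ 0 := by
    intro h0
    have := congrFun h0 (Sum.inl ⟨0, by omega⟩)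
    simp at this
  have ht := tGL_isTv hv0 (one_ne_zero (α := F))
  exact ⟨_, tGL_mem _ _, p, hpp, ht.pow_char, fun g hg τ => h _ (semi_mem hg τ (tGL_mem _ _))
    ((isTv_mp ht τ).conj g)⟩

theorem noFix_semi {x : GL (Fin m ⊕ Fin m) F}
    (hfix : ∀ v, (x : Matrix (Fin m ⊕ Fin m) (Fin m ⊕ Fin m) F) *ᵥ v = v → v = 0) (g : GL (Fin m ⊕ Fin m) F)
    (τ : F ≃+* F) : ∀ v, ((g * mp τ x * g⁻¹ : GL (Fin m ⊕ Fin m) F) :
      Matrix (Fin m ⊕ Fin m) (Fin m ⊕ Fin m) F) *ᵥ v = v → v = 0 := by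
  intro v hv
  obtain ⟨w, rfl⟩ : ∃ w : Fin m ⊕ Fin m → F,
      (g : Matrix (Fin m ⊕ Fin m) (Fin m ⊕ Fin m) F) *ᵥ (fun i => τ (w i)) = v := by
    refine ⟨fun i => τ.symm ((((g⁻¹ : GL (Fin m ⊕ Fin m) F) :
      Matrix (Fin m ⊕ Fin m) (Fin m ⊕ Fin m) F) *ᵥ v) i), ?_⟩
    simp only [RingEquiv.apply_symm_apply]
    rw [Matrix.mulVec_mulVec, ← Units.val_mul, mul_inv_cancel, Units.val_one, Matrix.one_mulVec]
  rw [Matrix.mulVec_mulVec, ← Units.val_mul, inv_mul_cancel_right, Units.val_mul, ← Matrix.mulVec_mulVec,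
    mulVec_mp] at hv
  have h1 : (fun i => τ (((x : Matrix (Fin m ⊕ Fin m) (Fin m ⊕ Fin m) F) *ᵥ w) i)) = fun i => τ (w i) := by
    have h2 := congrArg (fun u => ((g⁻¹ : GL (Fin m ⊕ Fin m) F) :
      Matrix (Fin m ⊕ Fin m) (Fin m ⊕ Fin m) F) *ᵥ u) hv
    simp only [Matrix.mulVec_mulVec] at h2
    rwa [← Units.val_mul, inv_mul_cancel, Units.val_one, Matrix.one_mulVec, Matrix.one_mulVec] at h2
  have h3 : w = 0 := by
    apply hfix
    ext i
    exact τ.injective (congrFun h1 i)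
  have h4 : (fun i => τ ((0 : Fin m ⊕ Fin m → F) i)) = 0 := by
    ext i
    simp
  rw [h3, h4, Matrix.mulVec_zero]

theorem killA_of_noFix [Fintype F] {H : Subgroup (GL (Fin m ⊕ Fin m) F)} {r : ℕ} (hr : r.Prime)
    (hrF : (r : F) ≠ 0) (hd : r ∣ Fintype.card F + 1)
    (h : ∀ y ∈ spGL m F, y ^ r = 1 → (∀ v, (y : Matrix (Fin m ⊕ Fin m) (Fin m ⊕ Fin m) F) *ᵥ v = v → v = 0) →
      y ∉ H) : KillA m F H := by
  obtain ⟨x, hx, hxr, hfix⟩ := exists_no_fix (m := m) hr hrF hd
  exact ⟨x, hx, r, hr, hxr, fun g hg τ => h _ (semi_mem hg τ hx) (semi_pow g τ hxr) (noFix_semi hfix g τ)⟩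

/-- **Orthogonal groups in characteristic two.** -/
theorem killA_quad [Fintype F] (hm : 2 ≤ m) (hF : ¬ Odd (Fintype.card F))
    {Q : (Fin m ⊕ Fin m → F) → F} (hQ : IsNondegenerateQuadraticForm Q)
    (hbig : (∃ r, Od (Fintype.card F) (2 * m) r) ∨ Odd m) : KillA m F (quadSimilarityGroup Q ⊓ spGL m F) := by
  have hev : Even (Fintype.card F) := Nat.not_odd_iff_even.1 hF
  have hι : Fintype.card (Fin m ⊕ Fin m) = 2 * m := card_sum_fin
  -- a prime divisor of `q + 1`
  obtain ⟨s, hs, hsd⟩ := Nat.exists_prime_and_dvd (n := Fintype.card F + 1) (by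
    have := Fintype.card_pos (α := F); omega)
  have hs2 : s ≠ 2 := by
    rintro rfl
    obtain ⟨a, ha⟩ := hev
    obtain ⟨b, hb⟩ := hsd
    omega
  have hchar : CharP F 2 := by
    obtain ⟨p, hp⟩ := CharP.exists F
    have hpp : p.Prime := CharP.char_is_prime F p
    obtain ⟨n, -, hn⟩ := FiniteField.card F p
    rw [hn] at hev
    have h2 : 2 ∣ p := Nat.prime_two.dvd_of_dvd_pow (even_iff_two_dvd.1 hev)
    have h3 : 2 = p := (Nat.prime_dvd_prime_iff_eq Nat.prime_two hpp).1 h2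
    rw [h3]
    exact hp
  have hsF : (s : F) ≠ 0 := by
    intro h0
    have h1 : 2 ∣ s := (CharP.cast_eq_zero_iff F 2 s).1 h0
    exact hs2 ((Nat.prime_dvd_prime_iff_eq Nat.prime_two hs).1 h1).symm
  have hs' := Fact.mk hs
  have hsq : (Fintype.card F : ZMod s) = -1 := by
    have h1 : ((Fintype.card F + 1 : ℕ) : ZMod s) = 0 := (ZMod.natCast_eq_zero_iff _ _).2 hsd
    push_cast at h1
    linear_combination h1
  have h2s : (2 : ZMod s) ≠ 0 := by
    intro h0
    have h1 : ((2 : ℕ) : ZMod s) = 0 := by exact_mod_cast h0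
    have h3 := (ZMod.natCast_eq_zero_iff 2 s).1 h1
    exact hs2 ((Nat.prime_dvd_prime_iff_eq hs Nat.prime_two).1 h3)
  have hplus : ∀ {Q₁ Q₂ : QuadraticForm F (Fin m ⊕ Fin m → F)}, ⇑Q₁ = Q → ⇑Q₂ = Q → Q₁ = Q₂ := by
    intro Q₁ Q₂ h1 h2
    exact DFunLike.coe_injective (h1.trans h2.symm)
  obtain ⟨Q', hQ', hnd⟩ := Cfsg.Agent.H883.Bridge.exists_quadraticForm hQ
  have hdvd : ∀ {n r : ℕ}, Od (Fintype.card F) n r → n ∣ 2 * m → r ∣ Nat.card (spGL m F) := by
    intro n r hr hn
    rw [Cfsg.Agent.H955.card_spGL, Nat.card_eq_fintype_card]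
    apply Dvd.dvd.mul_left
    refine dvd_trans ?_ (Finset.dvd_prod_of_mem _ (Finset.mem_range.2 (by omega : m - 1 < m)))
    rw [hr.dvd_iff Fintype.card_pos]
    rwa [show 2 * (m - 1 + 1) = 2 * m by omega]
  by_cases hP : Cfsg.Agent.H955.IsPlus Q'
  · -- plus type
    by_cases hmo : Odd m
    · -- an element of order `s` dividing `q + 1`
      apply killA_of_noFix hs hsF hsd
      rintro y hy hyr hfix ⟨hyQ, -⟩
      rcases quad_dichotomy (m := m) (by omega) hι hs hQ hyQ hyr hfix with ⟨-, h1⟩ | ⟨⟨Q'', hQ'', hP'⟩, -⟩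
      · rw [hsq, hmo.neg_one_pow, (Nat.Odd.sub_odd hmo odd_one).neg_one_pow] at h1
        have h3 : (2 : ZMod s) * 2 = 0 := by linear_combination -h1
        rcases mul_eq_zero.1 h3 with h4 | h4 <;> exact h2s h4
      · exact hP' (hplus hQ'' hQ' ▸ hP)
    · obtain ⟨r, hr⟩ := hbig.resolve_right hmo
      have := Fact.mk hr.prime
      apply killA_of_prime hr.prime (hdvd hr dvd_rfl)
      rintro y hy hyr hy1 ⟨hyQ, -⟩
      have hfix : ∀ v, (y : Matrix (Fin m ⊕ Fin m) (Fin m ⊕ Fin m) F) *ᵥ v = v → v = 0 := by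
        intro v hv
        have h1 : fixS y = ⊥ := by
          rcases irr_of_od (by rw [hι]; exact hr) hyr hy1 (fixS y) (fun v hv => by
            rw [mem_fixS.1 hv]; exact hv) with h | h
          · exact h
          · exact absurd (fixS_eq_top h) hy1
        have h2 : v ∈ fixS y := mem_fixS.2 hv
        rwa [h1, Submodule.mem_bot] at h2
      rcases quad_dichotomy (m := m) (by omega) hι hr.prime hQ hyQ hyr hfix with ⟨-, h1⟩ | ⟨⟨Q'', hQ'', hP'⟩, -⟩
      · rcases mul_eq_zero.1 h1 with h2 | h2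
        · have h3 : 2 * m ∣ m := by
            rw [← hr.ord]
            exact orderOf_dvd_of_pow_eq_one (sub_eq_zero.1 h2)
          have := Nat.le_of_dvd (by omega) h3
          omega
        · have h3 : 2 * m ∣ 2 * (m - 1) := by
            rw [← hr.ord]
            apply orderOf_dvd_of_pow_eq_one
            have h4 : (Fintype.card F : ZMod r) ^ (m - 1) = -1 := by linear_combination h2
            rw [mul_comm, pow_mul, h4]
            ring
          have := Nat.le_of_dvd (by omega) h3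
          omega
      · exact hP' (hplus hQ'' hQ' ▸ hP)
  · -- minus type
    by_cases hme : Even m
    · apply killA_of_noFix hs hsF hsd
      rintro y hy hyr hfix ⟨hyQ, -⟩
      rcases quad_dichotomy (m := m) (by omega) hι hs hQ hyQ hyr hfix with ⟨⟨Q'', hQ'', hP'⟩, -⟩ | ⟨-, h1⟩
      · exact hP (hplus hQ' hQ'' ▸ hP')
      · have hmo : Odd (m - 1) := Nat.Even.sub_odd (by omega) hme odd_one
        rw [hsq, hme.neg_one_pow, hmo.neg_one_pow] at h1
        have h3 : (2 : ZMod s) * 2 = 0 := by linear_combination -h1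
        rcases mul_eq_zero.1 h3 with h4 | h4 <;> exact h2s h4
    · have hmo : Odd m := Nat.not_even_iff_odd.1 hme
      have hm3 : 3 ≤ m := by
        rcases hmo with ⟨k, hk⟩
        omega
      obtain ⟨f, hf⟩ : ∃ f : ℕ, 1 ≤ f ∧ Fintype.card F = 2 ^ f := by
        obtain ⟨n, -, hn⟩ := FiniteField.card F 2
        exact ⟨n, n.pos, hn⟩
      obtain ⟨r, hr⟩ : ∃ r, Od (Fintype.card F) m r := by
        by_cases h6 : f * m = 6
        · have hmf : m = 3 ∧ f = 2 := by
            have h1 : m ∣ 6 := Dvd.intro_left f h6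
            have h2 : m ≤ 6 := Nat.le_of_dvd (by norm_num) h1
            rcases hmo with ⟨k, hk⟩
            interval_cases m <;> omega
          refine ⟨7, ?_⟩
          rw [hf.2, hmf.1, hmf.2]
          refine ⟨by norm_num, ?_, by norm_num⟩
          have : Fact (Nat.Prime 3) := ⟨by norm_num⟩
          exact orderOf_eq_prime (by decide) (by decide)
        · obtain ⟨r, hr'⟩ := Cfsg.Agent.H163.PG.exists_ppd (p := 2) (f := f) (k := m) le_rfl
            (by nlinarith [hf.1]) (fun h => h6 h.2)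
          refine ⟨r, ?_⟩
          rw [hf.2]
          exact Od.of_ppd Nat.prime_two hf.1 (by omega) hr'
      · have := Fact.mk hr.prime
        apply killA_of_prime hr.prime (hdvd hr (Dvd.intro_left 2 rfl))
        rintro y hy hyr hy1 ⟨hyQ, -⟩
        have h0 := noFix_of_odd hmo hr hy hyr hy1 (cast_ne_zero_of_od hr)
        have hfix : ∀ v, (y : Matrix (Fin m ⊕ Fin m) (Fin m ⊕ Fin m) F) *ᵥ v = v → v = 0 := by
          intro v hv
          have h2 : v ∈ fixS y := mem_fixS.2 hv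
          rwa [h0, Submodule.mem_bot] at h2
        have hqm : (Fintype.card F : ZMod r) ^ m = 1 := by
          have := pow_orderOf_eq_one (Fintype.card F : ZMod r)
          rwa [hr.ord] at this
        rcases quad_dichotomy (m := m) (by omega) hι hr.prime hQ hyQ hyr hfix with ⟨⟨Q'', hQ'', hP'⟩, -⟩ | ⟨-, h1⟩
        · exact hP (hplus hQ' hQ'' ▸ hP')
        · rw [hqm] at h1
          rcases mul_eq_zero.1 h1 with h3 | h3
          · have h4 : ((2 : ℕ) : ZMod r) = 0 := by push_cast; linear_combination h3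
            have h5 := (ZMod.natCast_eq_zero_iff 2 r).1 h4
            have h6 := Nat.le_of_dvd two_pos h5
            have := hr.lt
            omega
          · have h4 : m ∣ m - 1 := by
              conv_lhs => rw [← hr.ord]
              exact orderOf_dvd_of_pow_eq_one (sub_eq_zero.1 h3)
            have := Nat.le_of_dvd (by omega) h4
            omega

/-- normalisers of extension fields -/
theorem killA_field [Finite F] (hm : 2 ≤ m) {r : ℕ} (hr : r.Prime)
    {K : Subalgebra F (Matrix (Fin m ⊕ Fin m) (Fin m ⊕ Fin m) F)} (hK : IsFieldSubalgebra r K) :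
    KillA m F (subalgebraNormalizer K) :=
  killA_of_tv (by omega) fun y _ hy => rankOne_not_mem_subalgebraNormalizer
    (by rw [card_sum_fin]; omega) hy.isRankOneElt hr.two_le hK

/-- tensor decompositions -/
theorem killA_tensor [Finite F] (hm : 1 ≤ m) {n₁ n₂ : ℕ} (h₁ : 2 ≤ n₁) (h₂ : 2 ≤ n₂)
    (e : Fin m ⊕ Fin m ≃ Fin n₁ × Fin n₂) (P : GL (Fin m ⊕ Fin m) F) :
    KillA m F (tensorProductSubgroup n₁ n₂ e P) :=
  killA_of_tv hm fun y _ hy => hy.isRankOneElt.not_mem_tensorProductSubgroup h₁ h₂ e P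

/-- normalisers of symplectic type groups -/
theorem killA_symplecticType [Finite F] (hm : 2 ≤ m) {R : Subgroup (GL (Fin m ⊕ Fin m) F)}
    (hR : IsSymplecticTypeGroup 2 R) (habs : ActsAbsolutelyIrreducibly (matrixSet R)) :
    KillA m F (subgroupNormalizer R) := by
  refine killA_of_tv (by omega) fun y _ hy => hy.not_mem_subgroupNormalizer
    (by rw [card_sum_fin]; omega) habs ?_
  intro a ha b hb
  have h1 := Cfsg.Agent.H921.commutator_mem_center hR (fun h => absurd h (by decide)) ⟨a, ha⟩ ⟨b, hb⟩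
  obtain ⟨c, hc⟩ := Cfsg.Agent.H921.center_scalar habs _ h1
  refine ⟨c, ?_⟩
  have h2 : a * b = (a * b * a⁻¹ * b⁻¹) * (b * a) := by group
  have h3 := congrArg Units.val h2
  rw [Units.val_mul, Units.val_mul (a * b * a⁻¹ * b⁻¹), Units.val_mul b a] at h3
  rw [h3]
  have h4 : ((a * b * a⁻¹ * b⁻¹ : GL (Fin m ⊕ Fin m) F) : Matrix (Fin m ⊕ Fin m) (Fin m ⊕ Fin m) F) =
      c • (1 : Matrix (Fin m ⊕ Fin m) (Fin m ⊕ Fin m) F) := hc
  rw [h4, Matrix.smul_mul, Matrix.one_mul]

/-- the classes killed by irreducible elements of prime order -/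
theorem killA_of_irr [Fintype F] (hm : 2 ≤ m) {p f r : ℕ} (hp : p.Prime) (hf : 1 ≤ f) (hF : Fintype.card F = p ^ f)
    (hr : Cfsg.Agent.H163.PG.Ppd p (f * (2 * m)) r) :
    (∀ W : Submodule F (Fin m ⊕ Fin m → F), W ≠ ⊥ → W ≠ ⊤ → KillA m F (subspaceStabilizer W)) ∧
    (∀ (t k : ℕ) (D : Fin t → Submodule F (Fin m ⊕ Fin m → F)), IsMDecomposition k D →
      KillA m F (decompositionStabilizer D)) ∧
    (∀ (F₀ : Subfield F) (s : ℕ) (P : GL (Fin m ⊕ Fin m) F), s.Prime → Fintype.card F = Nat.card F₀ ^ s →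
      KillA m F (subfieldSubgroup F₀ P)) ∧
    (∀ (k t : ℕ) (e : (Fin m ⊕ Fin m) ≃ (Fin t → Fin k)) (P : GL (Fin m ⊕ Fin m) F), 2 ≤ k → 2 ≤ t →
      KillA m F (tensorWreathSubgroup k t e P)) := by
  have hod : Od (Fintype.card F) (2 * m) r := by
    rw [hF]
    exact Od.of_ppd hp hf (by omega) hr
  have hι : Fintype.card (Fin m ⊕ Fin m) = 2 * m := card_sum_fin
  have hd := dvd_card_spGL (by omega) hod dvd_rfl (by omega) le_rfl
  have hirr : ∀ y : GL (Fin m ⊕ Fin m) F, y ^ r = 1 → y ≠ 1 → ∀ W : Submodule F (Fin m ⊕ Fin m → F),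
      (∀ v ∈ W, (y : Matrix (Fin m ⊕ Fin m) (Fin m ⊕ Fin m) F) *ᵥ v ∈ W) → W = ⊥ ∨ W = ⊤ :=
    fun y h1 h2 => irr_of_od (by rw [hι]; exact hod) h1 h2
  refine ⟨fun W h0 h1 => ?_, fun t k D hD => ?_, fun F₀ s P hs hcard => ?_, fun k t e P hk ht => ?_⟩
  · exact killA_of_prime hod.prime hd fun y hy hyr hy1 =>
      not_mem_subspaceStabilizer_of_irr (hirr y hyr hy1) h0 h1
  · refine killA_of_prime hod.prime hd fun y hy hyr hy1 hyD => ?_
    have htk : t * k = 2 * m := by rw [Cfsg.Agent.H918.decomp_card hD, hι]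
    have ht : t ≤ 2 * m := by
      rw [← htk]
      exact Nat.le_mul_of_pos_right t hD.pos
    have h1 := fixes_of_decomposition hD hyD hod.prime (lt_of_le_of_lt ht hod.lt) hyr ⟨0, by
      have := hD.two_le; omega⟩
    rcases hirr y hyr hy1 _ h1 with h2 | h2
    · exact Cfsg.Agent.H918.decomp_ne_bot hD _ h2
    · have h3 := hD.finrank_eq ⟨0, by have := hD.two_le; omega⟩
      rw [h2, finrank_top, Module.finrank_fintype_fun_eq_card, hι] at h3
      have h4 := hD.two_le
      have h5 := hD.pos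
      have h6 : 2 * k ≤ t * k := Nat.mul_le_mul_right k h4
      omega
  · refine killA_of_prime hod.prime hd fun y hy hyr hy1 hyD => hy1 ?_
    -- `|F₀| = p ^ f₀`, `f = f₀ s`
    obtain ⟨f₀, hf₀1, hf₀, hfs⟩ : ∃ f₀ : ℕ, 1 ≤ f₀ ∧ Nat.card F₀ = p ^ f₀ ∧ f = f₀ * s := by
      have h1 : Nat.card F₀ ∣ p ^ f := by
        rw [← hF, hcard]
        exact dvd_pow_self _ hs.ne_zero
      obtain ⟨f₀, -, hf₀⟩ := (Nat.dvd_prime_pow hp).1 h1
      refine ⟨f₀, ?_, hf₀, ?_⟩
      · rcases Nat.eq_zero_or_pos f₀ with h0 | h0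
        · exfalso
          rw [h0, pow_zero] at hf₀
          rw [hf₀, one_pow] at hcard
          have := Fintype.one_lt_card (α := F)
          omega
        · exact h0
      · rw [hF, hf₀, ← pow_mul] at hcard
        exact Nat.pow_right_injective hp.two_le hcard
    have hdvd : ∀ j, r ∣ p ^ j - 1 ↔ f * (2 * m) ∣ j := hr.dvd_iff hp.one_lt.le
    have hs2 := hs.two_le
    refine eq_one_of_mem_subfieldSubgroup hyD hod.prime hyr ?_ ?_ ?_
    · intro h
      rw [hf₀] at h
      have h1 := hod.prime.dvd_of_dvd_pow h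
      apply hod.ndvd
      rw [hF]
      exact h1.trans (dvd_pow_self p (by omega))
    · rw [hF, hdvd]
      intro h
      have := Nat.le_of_dvd hf h
      nlinarith
    · intro j hj1 hj2
      rw [hf₀, ← pow_mul, hdvd]
      intro h
      have h1 := Nat.le_of_dvd (Nat.mul_pos hf₀1 hj1) h
      rw [hι] at hj2
      have h2 : f₀ * j ≤ f₀ * (2 * m) := Nat.mul_le_mul_left _ hj2
      have h3 : f₀ < f := by
        rw [hfs]
        nlinarith
      have h4 : f₀ * (2 * m) < f * (2 * m) := Nat.mul_lt_mul_of_pos_right h3 (by omega)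
      omega
  · refine killA_of_prime hod.prime hd fun y hy hyr hy1 hyD => hy1 ?_
    have hkt : k ^ t = 2 * m := by
      have h1 := Fintype.card_congr e
      rw [hι, Fintype.card_fun, Fintype.card_fin, Fintype.card_fin] at h1
      exact h1.symm
    have htm : t < 2 * m := by
      rw [← hkt]
      exact lt_of_lt_of_le Nat.lt_two_pow_self (Nat.pow_le_pow_left hk t)
    have hkm : k < 2 * m := by
      rw [← hkt]
      calc k = k ^ 1 := (pow_one k).symm
        _ < k ^ t := Nat.pow_lt_pow_right (by omega) (by omega)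
    refine eq_one_of_mem_tensorWreathSubgroup hyD hod.prime hyr (htm.trans hod.lt) hod.ndvd ?_
    intro j hj1 hj2
    rw [hod.dvd_iff Fintype.card_pos]
    intro h
    have := Nat.le_of_dvd hj1 h
    omega

/-- **Members of the geometric classes of `Sp_2m(q)`, `(m, q) ≠ (3, 2)`.** -/
theorem killA_class [Fintype F] (hm : 2 ≤ m) (h32 : ¬ (m = 3 ∧ Fintype.card F = 2))
    {M : Subgroup (GL (Fin m ⊕ Fin m) F)} (hM : InSymplecticClass m F M) : KillA m F M := by
  obtain ⟨p, hp⟩ := CharP.exists F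
  have hpp : p.Prime := CharP.char_is_prime F p
  obtain ⟨f, hf1, hF⟩ : ∃ f : ℕ, 1 ≤ f ∧ Fintype.card F = p ^ f := by
    obtain ⟨n, -, hn⟩ := FiniteField.card F p
    exact ⟨n, n.pos, hn⟩
  have hι : Fintype.card (Fin m ⊕ Fin m) = 2 * m := card_sum_fin
  obtain ⟨r, hr⟩ := Cfsg.Agent.H163.PG.exists_ppd (p := p) (f := f) (k := 2 * m) hpp.two_le
    (by nlinarith) (by
      rintro ⟨h2, h6⟩
      apply h32
      have h3 : f * m = 3 := by
        have : f * (2 * m) = 2 * (f * m) := by ring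
        omega
      have h4 : m ∣ 3 := Dvd.intro_left f h3
      have h5 : m = 3 := by
        rcases (Nat.dvd_prime Nat.prime_three).1 h4 with h | h
        · omega
        · exact h
      have h6 : f = 1 := by subst h5; omega
      exact ⟨h5, by rw [hF, h2, h6, pow_one]⟩)
  obtain ⟨k1, k2, k5, k7⟩ := killA_of_irr hm hpp hf1 hF hr
  have hod : Od (Fintype.card F) (2 * m) r := by
    rw [hF]
    exact Od.of_ppd hpp hf1 (by omega) hr
  rcases hM with hM | hM | hM | hM | hM
  · rcases hM with hM | hM | hM | hM | hM | hM | hM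
    · obtain ⟨W, hW0, hW, rfl⟩ := hM
      exact (k1 W hW0 (totallySingular_ne_top (by omega) hW)).mono inf_le_left
    · obtain ⟨W, hW0, hW, hW2, rfl⟩ := hM
      refine (k1 W hW0 ?_).mono inf_le_left
      rintro rfl
      rw [finrank_top, Module.finrank_fintype_fun_eq_card, hι] at hW2
      omega
    · obtain ⟨t, k, D, hD, rfl⟩ := hM
      exact (k2 t k D hD.decomp).mono inf_le_left
    · obtain ⟨D, -, hD, -, rfl⟩ := hM
      exact (k2 2 m D hD).mono inf_le_left
    · obtain ⟨F₀, s, P, ζ, hs, hcard, -, -, rfl⟩ := hM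
      exact (k5 F₀ s P hs hcard).mono inf_le_left
    · obtain ⟨R, p', k, hR, habs, -, -, -, -, -, -, -, rfl⟩ := hM
      exact (killA_symplecticType hm hR habs).mono inf_le_left
    · obtain ⟨Q, hodd, hQ, -, rfl⟩ := hM
      exact killA_quad hm hodd hQ (Or.inl ⟨r, hod⟩)
  · obtain ⟨s, K, hs, hK, -, -, rfl⟩ := hM
    exact (killA_field hm hs hK).mono inf_le_left
  · obtain ⟨K, -, hK, -, -, rfl⟩ := hM
    exact (killA_field hm Nat.prime_two hK).mono inf_le_left
  · obtain ⟨n₁, n₂, e, P, f₁, f₂, -, hn2, hf₁, -, -, rfl⟩ := hM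
    refine (killA_tensor (by omega) (two_le_of_symp hf₁ ?_) (by omega) e P).mono inf_le_left
    rintro rfl
    have h1 := Fintype.card_congr e
    rw [hι, Fintype.card_prod, Fintype.card_fin, zero_mul] at h1
    omega
  · obtain ⟨k, t, e, P, f₁, -, -, ht, -, hf₁, -, rfl⟩ := hM
    refine (k7 k t e P (two_le_of_symp hf₁ ?_) (by omega)).mono inf_le_left
    rintro rfl
    have h1 := Fintype.card_congr e
    rw [hι, Fintype.card_fun, Fintype.card_fin, Fintype.card_fin, zero_pow (by omega)] at h1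
    omega

/-- **Members of the geometric classes of `Sp_6(2)`.** -/
theorem killA_class_six [Fintype F] (hF : Fintype.card F = 2)
    {M : Subgroup (GL (Fin 3 ⊕ Fin 3) F)} (hM : InSymplecticClass 3 F M) : KillA 3 F M := by
  have hι : Fintype.card (Fin 3 ⊕ Fin 3) = 6 := card_sum_fin
  have h7 : Od (Fintype.card F) 3 7 := by rw [hF]; exact od_two_three
  have h5 : Od (Fintype.card F) 4 5 := by rw [hF]; exact od_two_four
  have hodd : ¬ Odd (Fintype.card F) := by rw [hF]; decide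
  have hd7 := dvd_card_spGL (F := F) (m := 3) (by omega) h7 (k := 3) (by norm_num) (by omega) le_rfl
  have hd5 := dvd_card_spGL (F := F) (m := 3) (by omega) h5 (k := 2) (by norm_num) (by omega) (by omega)
  have key7 : ∀ y ∈ spGL 3 F, y ^ 7 = 1 → y ≠ 1 → ∀ W : Submodule F (Fin 3 ⊕ Fin 3 → F),
      (∀ v ∈ W, (y : Matrix (Fin 3 ⊕ Fin 3) (Fin 3 ⊕ Fin 3) F) *ᵥ v ∈ W) → 3 ∣ finrank F W := by
    intro y hy hyr hy1 W hW
    have h0 := noFix_of_odd (m := 3) (by decide) h7 hy hyr hy1 (cast_ne_zero_of_od h7)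
    have h1 := finrank_inv h7 hyr W hW
    rwa [h0, inf_bot_eq, finrank_bot, Nat.sub_zero] at h1
  have k1 : ∀ W : Submodule F (Fin 3 ⊕ Fin 3 → F), W ≠ ⊥ → W ≠ ⊤ → KillA 3 F (subspaceStabilizer W) := by
    intro W hW0 hW1
    have hle := Submodule.finrank_le W
    rw [Module.finrank_fintype_fun_eq_card, hι] at hle
    by_cases h3 : 3 ∣ finrank F W
    · have hW3 : finrank F W = 3 := by
        have h4 : finrank F W ≠ 0 := fun h => hW0 (Submodule.finrank_eq_zero.1 h)
        have h5 : finrank F W ≠ 6 := fun h => hW1 (Submodule.eq_top_of_finrank_eq (by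
          rw [h, Module.finrank_fintype_fun_eq_card, hι]))
        omega
      refine killA_of_prime h5.prime hd5 fun y hy hyr hy1 hyW => ?_
      have h1 := finrank_fixS h5 hyr
      have h2 := finrank_fixS_lt hy1
      rw [hι] at h1 h2
      have h4 := finrank_inv h5 hyr W (fun v hv => (Cfsg.Agent.H918.mem_subspaceStabilizer.1 hyW v).1 hv)
      have h6 : finrank F (W ⊓ fixS y : Submodule F (Fin 3 ⊕ Fin 3 → F)) ≤ finrank F (fixS y) :=
        Submodule.finrank_mono inf_le_right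
      omega
    · exact killA_of_prime h7.prime hd7 fun y hy hyr hy1 hyW => h3 (key7 y hy hyr hy1 W
        (fun v hv => (Cfsg.Agent.H918.mem_subspaceStabilizer.1 hyW v).1 hv))
  rcases hM with hM | hM | hM | hM | hM
  · rcases hM with hM | hM | hM | hM | hM | hM | hM
    · obtain ⟨W, hW0, hW, rfl⟩ := hM
      exact (k1 W hW0 (totallySingular_ne_top (by omega) hW)).mono inf_le_left
    · obtain ⟨W, hW0, hW, hW2, rfl⟩ := hM
      refine (k1 W hW0 ?_).mono inf_le_left
      rintro rfl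
      rw [finrank_top, Module.finrank_fintype_fun_eq_card, hι] at hW2
      omega
    · obtain ⟨t, k, D, hD, rfl⟩ := hM
      refine KillA.mono ?_ inf_le_left
      refine killA_of_prime h7.prime hd7 fun y hy hyr hy1 hyD => ?_
      have h2 := hD.decomp.two_le
      have htk : t * k = 6 := by rw [Cfsg.Agent.H918.decomp_card hD.decomp, hι]
      have hk := hD.decomp.pos
      have ht : t ≤ 6 := by
        rw [← htk]
        exact Nat.le_mul_of_pos_right t hk
      have h1 := fixes_of_decomposition hD.decomp hyD h7.prime (by omega) hyr ⟨0, by omega⟩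
      have h3 := key7 y hy hyr hy1 _ h1
      rw [hD.decomp.finrank_eq] at h3
      have h4 := even_of_isNondegenerateOn Cfsg.Agent.H924.isSymplecticForm_sympForm
          (hD.nondegenerate ⟨0, by omega⟩)
      rw [hD.decomp.finrank_eq] at h4
      obtain ⟨l, rfl⟩ := h4
      obtain ⟨c, hc⟩ := h3
      have h6 : 6 ≤ l + l := by omega
      have : 2 * (l + l) ≤ t * (l + l) := Nat.mul_le_mul_right _ h2
      omega
    · obtain ⟨D, ho, -⟩ := hM
      exact absurd ho hodd
    · obtain ⟨F₀, s, P, ζ, hs, hcard, -⟩ := hM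
      exfalso
      rw [hF] at hcard
      have h1 : 1 < Nat.card F₀ := Finite.one_lt_card
      have h2 : 2 ^ 2 ≤ Nat.card F₀ ^ s := (Nat.pow_le_pow_left h1 2).trans
        (Nat.pow_le_pow_right (by omega) hs.two_le)
      omega
    · obtain ⟨R, p', k, -, -, -, hp, ho, hcard, -⟩ := hM
      rw [← hcard] at ho
      exact absurd ho hodd
    · obtain ⟨Q, ho, hQ, -, rfl⟩ := hM
      exact killA_quad (by omega) ho hQ (Or.inr (by decide))
  · obtain ⟨s, K, hs, hK, -, -, rfl⟩ := hM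
    exact (killA_field (by omega) hs hK).mono inf_le_left
  · obtain ⟨K, ho, -⟩ := hM
    exact absurd ho hodd
  · obtain ⟨n₁, n₂, e, P, f₁, f₂, ho, -⟩ := hM
    exact absurd ho hodd
  · obtain ⟨k, t, e, P, f₁, ho, -⟩ := hM
    exact absurd ho hodd

/-- **Members of the geometric classes of `Sp_2m(q)`, `m ≥ 2`.** -/
theorem killA_class' {m : ℕ} [Fintype F] (hm : 2 ≤ m)
    {M : Subgroup (GL (Fin m ⊕ Fin m) F)} (hM : InSymplecticClass m F M) : KillA m F M := by
  by_cases h32 : m = 3 ∧ Fintype.card F = 2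
  · obtain ⟨rfl, hF⟩ := h32
    exact killA_class_six hF hM
  · exact killA_class hm h32 hM

/-! ### From `Sp` to `PSp` -/

theorem not_mem_of_killA {R : Subgroup (PSp m F)} (h : KillA m F (pre R))
    (hA : ∀ α : MulAut (PSp m F), ∃ (A : GL (Fin m ⊕ Fin m) F) (τ : F ≃+* F), A ∈ GSp m F ∧
      IsInducedBySemilinearPSp A τ α) : H396.Der (PSp m F) R := by
  obtain ⟨x, hx, r, hr, hxr, hno⟩ := h
  obtain ⟨A, rfl⟩ := exists_spToGL hx
  have hsA : spToGL m F A = ss m F A := Units.ext rfl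
  have hA' : A ^ r = 1 := by
    apply spToGL_injective
    rw [map_pow, map_one]
    exact hxr
  refine ⟨(QuotientGroup.mk A : PSp m F), ?_, ?_⟩
  · have h1 : (QuotientGroup.mk A : PSp m F) ≠ 1 := by
      intro h1
      have h3 : (1 : PSp m F) = QuotientGroup.mk 1 := rfl
      have hz : A ∈ Subgroup.center (Matrix.symplecticGroup (Fin m) F) := (QuotientGroup.eq_one_iff A).1 h1
      have h2 : spToGL m F A ∈ scalars (Fin m ⊕ Fin m) F ⊓ spGL m F := by
        refine ⟨?_, spToGL_mem A⟩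
        obtain ⟨c, hc⟩ := (LieClassical.SympCenter.mem_center_iff m A).1 hz
        change spToGL m F A ∈ scalars (Fin m ⊕ Fin m) F
        rw [mem_scalars_iff]
        have hc0 : c ≠ 0 := by
          rintro rfl
          have h4 : (A : Matrix (Fin m ⊕ Fin m) (Fin m ⊕ Fin m) F) = 0 := by rw [hc, zero_smul]
          have h5 := SymplecticGroup.symplectic_det A.2
          rw [h4] at h5
          rcases isEmpty_or_nonempty (Fin m ⊕ Fin m) with hι | hι
          · apply hno 1 (GSp m F).one_mem (RingEquiv.refl F)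
            have : (1 * mp (RingEquiv.refl F) (spToGL m F A) * 1⁻¹ : GL (Fin m ⊕ Fin m) F) = 1 :=
              Units.ext (Subsingleton.elim _ _)
            rw [this]
            exact (pre R).one_mem
          · rw [Matrix.det_zero] at h5
            exact not_isUnit_zero h5
        exact ⟨Units.mk0 c hc0, hc⟩
      have h4 := scalars_le_pre R h2
      apply hno 1 (GSp m F).one_mem (RingEquiv.refl F)
      have h5 : mp (RingEquiv.refl F) (spToGL m F A) = spToGL m F A := by
        apply Units.ext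
        rw [coe_mp]
        ext i j
        rfl
      rw [h5, one_mul, inv_one, mul_one]
      exact h4
    have h2 : (QuotientGroup.mk A : PSp m F) ^ r = 1 := by
      rw [← QuotientGroup.mk_pow, hA']
      rfl
    rcases (Nat.dvd_prime hr).1 (orderOf_dvd_of_pow_eq_one h2) with h3 | h3
    · exact absurd (orderOf_eq_one_iff.1 h3) h1
    · rw [h3]
      exact hr
  · intro α hα
    obtain ⟨g, τ, hg, hind⟩ := hA α
    let B : Matrix.symplecticGroup (Fin m) F := ⟨_, conj_mem_symp hg τ A⟩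
    have hB : ss m F B = g * mp τ (ss m F A) * g⁻¹ := Units.ext rfl
    have hB' : spToGL m F B = ss m F B := Units.ext rfl
    have h1 : α (QuotientGroup.mk A) = QuotientGroup.mk B := by
      apply hind
      rw [← coe_ss B, hB, Units.val_mul, Units.val_mul, coe_mp, coe_ss]
    apply hno g hg τ
    rw [hsA, ← hB, ← hB', mem_pre, ← h1]
    exact hα

/-- **Proper subgroups of `PSp_2m(q)`, `(m, q) ≠ (2, 2^f)`**: a class under the automorphism group of elements of prime
order is missed, or the residual class. -/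
theorem der_or_residual [Fintype F] (hm : 2 ≤ m) (h : 3 ≤ m ∨ (2 : F) ≠ 0)
    {R : Subgroup (PSp m F)} (hR : R ≠ ⊤) :
    H396.Der (PSp m F) R ∨ InSymplecticResidualClass (pre R) := by
  have hex : ¬ (m = 2 ∧ Fintype.card F = 2) := by
    rintro ⟨h1, h2⟩
    rcases h with h | h
    · omega
    · apply h
      have h3 : ((Fintype.card F : ℕ) : F) = 0 := FiniteField.cast_card_eq_zero F
      rw [h2] at h3
      exact_mod_cast h3
  rcases Cfsg.Agent.S5662.result m hm hex (pre R) (pre_le R) (by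
    rw [sup_eq_left.2 (scalars_le_pre R)]
    exact pre_ne hR) with ⟨M, hM, hle⟩ | h'
  · exact Or.inl (not_mem_of_killA ((killA_class' hm hM).mono hle) (H198.SympGamma.exists_pair hm h))
  · exact Or.inr h'

/-- similitudes and transvections -/
theorem tGL_semi {g : GL (Fin m ⊕ Fin m) F} (hg : g ∈ GSp m F) (τ : F ≃+* F) (a : Fin m ⊕ Fin m → F) (c : F) :
    ∃ d : F, (c ≠ 0 → d ≠ 0) ∧ g * mp τ (tGL a c) * g⁻¹ =
      tGL ((g : Matrix (Fin m ⊕ Fin m) (Fin m ⊕ Fin m) F) *ᵥ fun i => τ (a i)) d := by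
  obtain ⟨l, hl⟩ := hg
  refine ⟨τ c * (l : F)⁻¹, fun hc => mul_ne_zero ((map_ne_zero τ).2 hc) (inv_ne_zero l.ne_zero), ?_⟩
  rw [mul_inv_eq_iff_eq_mul]
  apply Units.ext
  apply Matrix.toLin'.injective
  apply LinearMap.ext
  intro v
  obtain ⟨v, rfl⟩ : ∃ w : Fin m ⊕ Fin m → F, (fun i => τ (w i)) = v :=
    ⟨fun i => τ.symm (v i), by ext i; simp⟩
  rw [Matrix.toLin'_apply, Matrix.toLin'_apply, Units.val_mul, Units.val_mul, ← Matrix.mulVec_mulVec, mulVec_mp,
    ← Matrix.mulVec_mulVec, tGL_mulVec, tGL_mulVec, hl, H198.SympGamma.sympForm_map]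
  have h1 : (fun i => τ ((v + (c * sympForm m F v a) • a) i)) =
      (fun i => τ (v i)) + (τ c * τ (sympForm m F v a)) • fun i => τ (a i) := by
    ext i
    simp
  rw [h1, Matrix.mulVec_add, Matrix.mulVec_smul]
  congr 2
  field_simp

/-- The residual class of `Sp_2m(q)`, `q` odd, is killed by the transvections. -/
theorem killA_of_core [Finite F] (h2 : (2 : F) ≠ 0) (hm : 2 ≤ m) {H : Subgroup (GL (Fin m ⊕ Fin m) F)}
    (hH : H ≤ spGL m F) (hne : ¬ spGL m F ≤ H) {P : Subgroup (GL (Fin m ⊕ Fin m) F)}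
    (hP : IsResidualCore H P) : KillA m F H := by
  obtain ⟨p, hp⟩ := CharP.exists F
  have hpp : p.Prime := CharP.char_is_prime F p
  have hv0 : (Pi.single (Sum.inl ⟨0, by omega⟩) 1 : Fin m ⊕ Fin m → F) ≠ 0 := by
    intro h0
    have := congrFun h0 (Sum.inl ⟨0, by omega⟩)
    simp at this
  have ht := tGL_isTv hv0 (one_ne_zero (α := F))
  refine ⟨_, tGL_mem _ _, p, hpp, ht.pow_char, fun g hg τ => ?_⟩
  obtain ⟨d, hd, he⟩ := tGL_semi hg τ (Pi.single (Sum.inl ⟨0, by omega⟩) 1) 1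
  rw [he]
  refine no_tGL_of_core h2 hm hH hne hP ?_ (hd one_ne_zero)
  intro h0
  apply hv0
  have h1 := congrArg (fun u => ((g⁻¹ : GL (Fin m ⊕ Fin m) F) :
      Matrix (Fin m ⊕ Fin m) (Fin m ⊕ Fin m) F) *ᵥ u) h0
  simp only [Matrix.mulVec_mulVec] at h1
  rw [← Units.val_mul, inv_mul_cancel, Units.val_one, Matrix.one_mulVec, Matrix.mulVec_zero] at h1
  ext i
  have h3 := congrFun h1 i
  exact τ.injective (h3.trans (map_zero τ).symm)

/-- **Every proper subgroup of `PSp_2m(q)`, `m ≥ 2`, `q` odd, misses a class under the automorphism group of elements of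
prime order.** -/
theorem der_odd [Fintype F] (hm : 2 ≤ m) (hq : Odd (Fintype.card F)) {R : Subgroup (PSp m F)} (hR : R ≠ ⊤) :
    H396.Der (PSp m F) R := by
  have h2 := two_ne_zero_of_odd hq
  rcases der_or_residual hm (Or.inr h2) hR with h | ⟨P, hP, -⟩
  · exact h
  · apply not_mem_of_killA _ (H198.SympGamma.exists_pair hm (Or.inr h2))
    exact killA_of_core h2 hm (pre_le R) (fun hle => pre_ne hR (le_antisymm (pre_le R) hle)) hP

theorem clMaxA_odd [Fintype F] (hm : 2 ≤ m) (hq : Odd (Fintype.card F)) : H278.El.ClMaxA (PSp m F) :=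
  fun _ hM => der_odd hm hq hM.1

end Cfsg.Agent.H304.Ela.Sp
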