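import Cfsg.Agent.H278.ElCore
import Cfsg.Agent.H304.Ela.Geo
import Cfsg.Agent.H304.Ela.SpKill

/-!
# The classical families, automorphism version (helper304, for S3553)
-/

set_option autoImplicit false

namespace Cfsg.Agent.H304.Ela

open Cfsg Cfsg.Geo Cfsg.Agent.OrdDiv Cfsg.Agent.H436 Cfsg.Agent.H264.FKS Cfsg.Agent.H915.GN Cfsg.Agent.H278.El
open Cfsg.Agent.H278.El.Asm
open Cfsg.Agent.H278.El.SporNum (IsCl exc)
open Cfsg.Agent.H278.El.AltNum (dimOf surv alt_main)
open Cfsg.Agent.H884.Cx (excP cross_row)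
open Cfsg.Agent.H396 (Der)
open scoped MatrixGroups

/-- the cross characteristic rows, missing primes -/
structure CrossRowsM : Prop where
  psl : ∀ {F : Type} [Field F] [Fintype F] {n p : ℕ}, p.Prime → p ∣ Fintype.card F → 4 ≤ n →
    ¬ (Fintype.card F = 2 ∧ (n = 4 ∨ n = 6 ∨ n = 7)) → ¬ (Fintype.card F = 4 ∧ n = 4) →
    CrossRowM p (Matrix.ProjectiveSpecialLinearGroup (Fin n) F) (Fin n) F
  psp : ∀ {F : Type} [Field F] [Fintype F] {m p : ℕ}, p.Prime → p ∣ Fintype.card F → 3 ≤ m →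
    ¬ Odd (Fintype.card F) → ¬ (Fintype.card F = 2 ∧ m ≤ 4) → CrossRowM p (PSp m F) (Fin m ⊕ Fin m) F
  psu : ∀ {F : Type} [Field F] [Fintype F] {n p q : ℕ}, Fintype.card F = q ^ 2 → p.Prime → p ∣ q → 4 ≤ n →
    ¬ (q = 2 ∧ n ≤ 6) → ¬ (n = 4 ∧ q = 3) → CrossRowM p (PSU n F q) (Fin n) F
  oodd : ∀ {F : Type} [Field F] [Fintype F] {m p : ℕ}, p.Prime → p ∣ Fintype.card F → 3 ≤ m →
    Odd (Fintype.card F) → CrossRowM p (POmega F (quadFormOdd m F)) (Unit ⊕ (Fin m ⊕ Fin m)) F
  oplus : ∀ {F : Type} [Field F] [Fintype F] {m p : ℕ}, p.Prime → p ∣ Fintype.card F → 4 ≤ m →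
    ¬ (Fintype.card F = 2 ∧ m ≤ 5) → CrossRowM p (POmega F (quadFormPlus m F)) (Fin m ⊕ Fin m) F
  ominus : ∀ {F : Type} [Field F] [Fintype F] {m p : ℕ} {a b : F}, p.Prime → p ∣ Fintype.card F → 4 ≤ m →
    (∀ z₁ z₂ : F, z₁ ^ 2 + a * z₁ * z₂ + b * z₂ ^ 2 = 0 → z₁ = 0 ∧ z₂ = 0) →
    ¬ (Fintype.card F = 2 ∧ m = 4) →
    CrossRowM p (POmega F (quadFormMinus (m - 1) F a b)) ((Fin (m - 1) ⊕ Fin (m - 1)) ⊕ Fin 2) F

theorem crossRowsM (hs : Surv) : CrossRowsM where
  psl := fun {F} _ _ => (crossRows hs).psl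
  psp := by
    intro F _ _ m p hp hpF hm hodd h2 R hR S hSn hSs hna hC H P hP e s g hsp hne hS hch
    have hfin : Finite (PSp m F) := Quotient.finite _
    have hT : IsNamed (.psp m (Fintype.card F)) (PSp m F) := named_psp (F := F) (n := m) (by omega) (by omega)
    rcases cross_gen hp hT trivial (hasChar_card hp hpF) (by
        rw [Fintype.card_sum, Fintype.card_fin]; exact (two_mul m).symm) hpF S hSn hSs hna hC hP e
      hsp hne hS hch with h | h
    · exact h
    · simp only [excP, List.mem_cons, Prod.mk.injEq, Grp.psp.injEq, reduceCtorEq, and_false, false_and, or_false,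
        false_or, List.not_mem_nil] at h
      omega
  psu := fun {F} _ _ => (crossRows hs).psu
  oodd := by
    intro F _ _ m p hp hpF hm hodd R hR S hSn hSs hna hC H P hP e s g hsp hne hS hch
    have hfin : Finite (POmega F (quadFormOdd m F)) := Quotient.finite _
    have hT : IsNamed (.oodd m (Fintype.card F)) (POmega F (quadFormOdd m F)) := named_oodd (F := F) hm hodd
    have hι : Fintype.card (Unit ⊕ (Fin m ⊕ Fin m)) = 2 * m + 1 := by
      rw [Fintype.card_sum, Fintype.card_sum, Fintype.card_fin, Fintype.card_unit]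
      omega
    rcases cross_gen hp hT trivial (hasChar_card hp hpF) hι hpF S hSn hSs hna hC hP e
      hsp hne hS hch with h | h
    · exact h
    · simp only [excP, List.mem_cons, Prod.mk.injEq, Grp.oodd.injEq, reduceCtorEq, and_false, or_false,
        false_or, List.not_mem_nil] at h
      obtain ⟨rfl, rfl, h3⟩ := h
      obtain ⟨e⟩ := e
      exact (hs.sz h3 (by rw [hι]; omega) hP e hS).elim
  oplus := by
    intro F _ _ m p hp hpF hm h2 R hR S hSn hSs hna hC H P hP e s g hsp hne hS hch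
    have hfin : Finite (POmega F (quadFormPlus m F)) := Quotient.finite _
    have hT : IsNamed (.oplus m (Fintype.card F)) (POmega F (quadFormPlus m F)) := named_oplus (F := F) hm
    have hι : Fintype.card (Fin m ⊕ Fin m) = 2 * m := by
      rw [Fintype.card_sum, Fintype.card_fin]; exact (two_mul m).symm
    rcases cross_gen hp hT trivial (hasChar_card hp hpF) hι hpF S hSn hSs hna hC hP e
      hsp hne hS hch with h | h
    · exact h
    · simp only [excP, List.mem_cons, Prod.mk.injEq, Grp.oplus.injEq, reduceCtorEq, and_false, or_false,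
        false_or, List.not_mem_nil] at h
      rcases h with ⟨rfl, rfl, h3⟩ | ⟨rfl, rfl, h3⟩
      · exact (hs.g2 h3 hR S hSn hC hS).elim
      · obtain ⟨e⟩ := e
        exact (hs.sz h3 (by rw [hι]) hP e hS).elim
  ominus := fun {F} _ _ => (crossRows hs).ominus

variable {F : Type} [Field F] [Fintype F]

/-- **`PSp_2m(q)`, `m ≥ 3`**, except `Sp6(2)`, `Sp8(2)`. -/
theorem psp_row (tab : OrderTable.{0}) (hK : Kn) {p : ℕ} (hp : p.Prime) (hpF : p ∣ Fintype.card F) {m : ℕ}
    (hn : 3 ≤ m) (h2 : ¬ (Fintype.card F = 2 ∧ m ≤ 4))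
    (hc : CrossRowM p (PSp m F) (Fin m ⊕ Fin m) F) {R : Subgroup (PSp m F)} (hR : R ≠ ⊤) : Der (PSp m F) R := by
  have hT : IsNamed (.psp m (Fintype.card F)) (PSp m F) := named_psp (F := F) (n := m) (by omega) (by omega)
  have hfin : Finite (PSp m F) := Quotient.finite _
  rcases Sp.der_or_residual (by omega) (.inl hn) hR with h | ⟨P, hP, -⟩
  · exact h
  · obtain ⟨S, hSn, hSs, hna, hC, ⟨e⟩⟩ := exists_socle
      (Cfsg.Agent.H876.spToGL m F) H262.El.spToGL_injective _ (QuotientGroup.mk'_surjective _) hker_sp hP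
    obtain ⟨g, hg⟩ := named_of_simple tab hK hna
    refine res_kill (p := p) hT trivial ?_ ?_ S hC hg e ?_ der_of_miss ?_ ?_
    · simp only [surv, List.mem_cons, Grp.psp.injEq, reduceCtorEq, or_false, false_or, List.not_mem_nil, not_or]
      exact ⟨by omega, by omega, by omega, by omega⟩
    · intro g' hg'
      simp only [exc, List.mem_cons, Prod.mk.injEq, reduceCtorEq, and_false, or_false, List.not_mem_nil] at hg'
    · rw [Fintype.card_sum, Fintype.card_fin]
      exact (two_mul m).symm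
    · exact fun hch => charRowA_psp hp hpF hT hn h2 R hR S hSn hSs hna hC g hg hch
    · exact fun s hs hsp hch => der_of_miss (hc R hR S hSn hSs hna hC _ P hP ⟨e⟩ s g hs hsp hg hch)

/-- **`Ω_{2m+1}(q)`, `q` odd, `m ≥ 3`.** -/
theorem oodd_row (tab : OrderTable.{0}) (hK : Kn) {p : ℕ} (hp : p.Prime) (hpF : p ∣ Fintype.card F) {m : ℕ}
    (hm : 3 ≤ m) (hodd : Odd (Fintype.card F))
    (hc : CrossRowM p (POmega F (quadFormOdd m F)) (Unit ⊕ (Fin m ⊕ Fin m)) F)
    {R : Subgroup (POmega F (quadFormOdd m F))} (hR : R ≠ ⊤) : Der _ R := by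
  have hT : IsNamed (.oodd m (Fintype.card F)) (POmega F (quadFormOdd m F)) := named_oodd (F := F) hm hodd
  have hfin : Finite (POmega F (quadFormOdd m F)) := Quotient.finite _
  rcases geo_oddA hm hodd R with h | ⟨P, hP, -⟩
  · exact h
  · obtain ⟨S, hSn, hSs, hna, hC, ⟨e⟩⟩ := exists_res_odd hm hodd (M := R) hP
    obtain ⟨g, hg⟩ := named_of_simple tab hK hna
    refine res_kill (p := p) hT trivial ?_ ?_ S hC hg e ?_ der_of_miss ?_ ?_
    · simp only [surv, List.mem_cons, reduceCtorEq, or_false, List.not_mem_nil, not_false_eq_true]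
    · intro g' hg'
      simp only [exc, List.mem_cons, Prod.mk.injEq, reduceCtorEq, and_false, or_false, List.not_mem_nil] at hg'
    · rw [Fintype.card_sum, Fintype.card_sum, Fintype.card_fin, Fintype.card_unit]
      change 1 + (m + m) = 2 * m + 1
      omega
    · exact fun hch => charRowA_oodd hp hpF hT R hR S hSn hSs hna hC g hg hch
    · exact fun s hs hsp hch => der_of_miss (hc R hR S hSn hSs hna hC _ P hP ⟨e⟩ s g hs hsp hg hch)

/-- the residual class of `PΩ^+_{2m}(q)`: general form -/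
theorem oplus_res (tab : OrderTable.{0}) (hK : Kn) {p : ℕ} {m : ℕ}
    (hm : 4 ≤ m) (h2 : ¬ (Fintype.card F = 2 ∧ m ≤ 5))
    (hc : CrossRowM p (POmega F (quadFormPlus m F)) (Fin m ⊕ Fin m) F)
    {R : Subgroup (POmega F (quadFormPlus m F))} (hR : R ≠ ⊤) {Q : Prop}
    (hres : InOrthogonalResidualClass (Cfsg.Agent.H884.El.pre (quadFormPlus m F) R)) (hQ : Miss R → Q)
    (hch : ∀ S : Subgroup R, S.Normal → IsSimpleGroup S → ¬ IsMulCommutative S →
      Subgroup.centralizer (S : Set R) = ⊥ → ∀ g, IsNamed g S → HasChar p g → Q) : Q := by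
  have hT : IsNamed (.oplus m (Fintype.card F)) (POmega F (quadFormPlus m F)) := named_oplus (F := F) hm
  have hfin : Finite (POmega F (quadFormPlus m F)) := Quotient.finite _
  obtain ⟨P, hP, -⟩ := hres
  obtain ⟨S, hSn, hSs, hna, hC, ⟨e⟩⟩ := exists_res_plus hm (M := R) hP
  obtain ⟨g, hg⟩ := named_of_simple tab hK hna
  refine res_kill (p := p) hT trivial ?_ ?_ S hC hg e ?_ hQ ?_ ?_
  · simp only [surv, List.mem_cons, Grp.oplus.injEq, reduceCtorEq, or_false, false_or, List.not_mem_nil]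
    omega
  · intro g' hg'
    simp only [exc, List.mem_cons, Prod.mk.injEq, Grp.oplus.injEq, reduceCtorEq, and_false, or_false, false_or,
      List.not_mem_nil] at hg'
    omega
  · rw [Fintype.card_sum, Fintype.card_fin]
    exact (two_mul m).symm
  · exact fun h => hch S hSn hSs hna hC g hg h
  · exact fun s hs hsp h => hQ (hc R hR S hSn hSs hna hC _ P hP ⟨e⟩ s g hs hsp hg h)

/-- **`PΩ^+_{2m}(q)`, `m ≥ 5`**, except `O10+(2)`. -/
theorem oplus_row (tab : OrderTable.{0}) (hK : Kn) {p : ℕ} (hp : p.Prime) (hpF : p ∣ Fintype.card F) {m : ℕ}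
    (hm : 5 ≤ m) (h2 : ¬ (Fintype.card F = 2 ∧ m ≤ 5))
    (hc : CrossRowM p (POmega F (quadFormPlus m F)) (Fin m ⊕ Fin m) F)
    {R : Subgroup (POmega F (quadFormPlus m F))} (hR : R ≠ ⊤) : Der _ R := by
  have hfin : Finite (POmega F (quadFormPlus m F)) := Quotient.finite _
  rcases geo_plusA hm R with h | h
  · exact h
  · exact oplus_res tab hK (by omega) h2 hc hR h der_of_miss fun S hSn hSs hna hC g hg hch =>
      charRowA_oplus hp hpF (named_oplus (F := F) (by omega)) hm h2 R hR S hSn hSs hna hC g hg hch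

/-- **`PΩ^+_8(q)`, `q ≠ 2`, semilinear version.** -/
theorem oplus_four (tab : OrderTable.{0}) (hK : Kn) {p : ℕ} (hp : p.Prime) (hpF : p ∣ Fintype.card F)
    (h2 : Fintype.card F ≠ 2) (hc : CrossRowM p (POmega F (quadFormPlus 4 F)) (Fin 4 ⊕ Fin 4) F)
    {R : Subgroup (POmega F (quadFormPlus 4 F))} (hR : R ≠ ⊤) : DerS (quadFormPlus 4 F) R := by
  have hfin : Finite (POmega F (quadFormPlus 4 F)) := Quotient.finite _
  rcases geo_plusS le_rfl R with h | h
  · exact h
  · refine oplus_res tab hK le_rfl (by omega) hc hR h (fun h => derS_of_der (der_of_miss h))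
      fun S hSn hSs hna hC g hg hch => ?_
    obtain ⟨f, hf⟩ := hasChar_card hp hpF
    have hf1 : 1 ≤ f := by
      rcases Nat.eq_zero_or_pos f with rfl | h
      · have := Fintype.one_lt_card (α := F)
        rw [hf, pow_zero] at this
        omega
      · exact h
    exact derS_four hf hp hf1 (hf ▸ h2) hR S hna hC hg hch

/-! ### the families -/

theorem clA_of_all {T : Type*} [Group T] (h : ∀ R : Subgroup T, R ≠ ⊤ → Der T R) : ClMaxA T :=
  fun M hM => h M hM.1

theorem alt_eight : ClMaxA (alternatingGroup (Fin 8)) := by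
  refine Alt.clMaxA_alt ⟨8, by norm_num, ⟨MulEquiv.refl _⟩⟩ ?_
  rintro ⟨e⟩
  have h1 := Nat.card_congr e.toEquiv
  have h2 := H499.TT.card_alt (n := 6) (by norm_num)
  have h3 := H499.TT.card_alt (n := 8) (by norm_num)
  rw [h1, h2] at h3
  exact absurd h3 (by decide)

/-- **`PSL_n(q)`**, not `PSL_2(9)`. -/
theorem clA_psl (tab : OrderTable.{0}) (hK : Kn) (hc : CrossRowsM) {n : ℕ} (hn : 2 ≤ n)
    (h4 : n = 2 → 4 ≤ Fintype.card F) (h9 : ¬ (n = 2 ∧ Fintype.card F = 9)) :
    ClMaxA (Matrix.ProjectiveSpecialLinearGroup (Fin n) F) := by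
  have hfin : Finite (Matrix.ProjectiveSpecialLinearGroup (Fin n) F) := Quotient.finite _
  obtain ⟨p, hp, hpF⟩ := exists_char_card (F := F)
  rcases Nat.lt_or_ge n 4 with h | h
  · have h23 : n = 2 ∨ n = 3 := by omega
    rcases h23 with rfl | rfl
    · exact H947.El.psl2_max (h4 rfl) fun h => h9 ⟨rfl, h⟩
    · exact H304.Psl3.clMaxA
  · by_cases h1 : Fintype.card F = 2 ∧ (n = 4 ∨ n = 6 ∨ n = 7)
    · obtain ⟨hF, rfl | rfl | rfl⟩ := h1
      · obtain ⟨e⟩ := S0256.result hF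
        exact alt_eight.congr e.symm
      · exact H503.El.clMaxA_psl62 tab hK F hF
      · exact H503.El.clMaxA_psl72 tab hK F hF
    · by_cases h2 : Fintype.card F = 4 ∧ n = 4
      · obtain ⟨hF, rfl⟩ := h2
        exact H503.El.clMaxA_psl44 tab hK F hF
      · exact psl_row tab hK hp hpF h h1 h2 (hc.psl hp hpF h h1 h2)

/-- **`PSp_2m(q)`**, except `PSp_4(2^f)`. -/
theorem clA_psp (tab : OrderTable.{0}) (hK : Kn) (hc : CrossRowsM) {m : ℕ} (hm : 2 ≤ m)
    (h : Odd (Fintype.card F) ∨ 3 ≤ m) : ClMaxA (PSp m F) := by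
  have hfin : Finite (PSp m F) := Quotient.finite _
  obtain ⟨p, hp, hpF⟩ := exists_char_card (F := F)
  by_cases hodd : Odd (Fintype.card F)
  · exact Sp.clMaxA_odd hm hodd
  have h3 := h.resolve_left hodd
  by_cases h1 : Fintype.card F = 2 ∧ m ≤ 4
  · obtain ⟨hF, hm4⟩ := h1
    have h34 : m = 3 ∨ m = 4 := by omega
    rcases h34 with rfl | rfl
    · exact H180.LEl.clMaxA_sp62 hF ⟨MulEquiv.refl _⟩
    · exact H503.El.clMaxA_sp82 tab hK F hF
  · exact clA_of_all fun R hR => psp_row tab hK hp hpF h3 h1 (hc.psp hp hpF h3 hodd h1) hR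

/-- **`PSU_n(q)`.** -/
theorem clA_psu (tab : OrderTable.{0}) (hK : Kn) (hc : CrossRowsM) {n q : ℕ} (hF : Fintype.card F = q ^ 2)
    (hn : 3 ≤ n) (h32 : ¬ (n = 3 ∧ q = 2)) (hq : IsPrimePow q) : ClMaxA (PSU n F q) := by
  have hfin : Finite (PSU n F q) := Quotient.finite _
  have hq2 := hq.two_le
  obtain ⟨p, f, hp, hf, hpf⟩ := (isPrimePow_nat_iff _).1 hq
  have hpq : p ∣ q := hpf ▸ dvd_pow_self p hf.ne'
  rcases Nat.lt_or_ge n 4 with h | h
  · obtain rfl : n = 3 := by omega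
    exact H947.El.clMaxA_psu3 hF (by omega)
  · by_cases h1 : q = 2 ∧ n ≤ 6
    · obtain ⟨rfl, hn6⟩ := h1
      have h456 : n = 4 ∨ n = 5 ∨ n = 6 := by omega
      rcases h456 with rfl | rfl | rfl
      · exact H251.Small.clMaxA_u42 tab hK hF
      · exact H251.Small.clMaxA_u5 tab hK hF
      · exact H251.Small.clMaxA_u6 tab hK hF
    · by_cases h2 : n = 4 ∧ q = 3
      · obtain ⟨rfl, rfl⟩ := h2
        exact H251.Small.clMaxA_u43 tab hK hF
      · exact clA_of_all fun R hR =>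
          der_of_miss (psu_row tab hK hF hp hpq h h1 h2 (hc.psu hF hp hpq h h1 h2) hR)

/-- **`Ω_{2m+1}(q)`.** -/
theorem clA_oodd (tab : OrderTable.{0}) (hK : Kn) (hc : CrossRowsM) {m : ℕ} (hm : 3 ≤ m)
    (hodd : Odd (Fintype.card F)) : ClMaxA (POmega F (quadFormOdd m F)) := by
  obtain ⟨p, hp, hpF⟩ := exists_char_card (F := F)
  exact clA_of_all fun R hR => oodd_row tab hK hp hpF hm hodd (hc.oodd hp hpF hm hodd) hR

/-- **`PΩ^+_{2m}(q)`, `m ≥ 5`.** -/
theorem clA_oplus (tab : OrderTable.{0}) (hK : Kn) (hc : CrossRowsM) {m : ℕ} (hm : 5 ≤ m) :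
    ClMaxA (POmega F (quadFormPlus m F)) := by
  have hfin : Finite (POmega F (quadFormPlus m F)) := Quotient.finite _
  obtain ⟨p, hp, hpF⟩ := exists_char_card (F := F)
  by_cases h1 : Fintype.card F = 2 ∧ m ≤ 5
  · obtain ⟨hF, hm5⟩ := h1
    obtain rfl : m = 5 := by omega
    exact H503.El.clMaxA_o10p tab hK F hF
  · exact clA_of_all fun R hR => oplus_row tab hK hp hpF hm h1 (hc.oplus hp hpF (by omega) h1) hR

/-- **`PΩ^-_{2m}(q)`.** -/
theorem clA_ominus (tab : OrderTable.{0}) (hK : Kn) (hc : CrossRowsM) {m : ℕ} (hm : 4 ≤ m) {a b : F}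
    (hab : ∀ z₁ z₂ : F, z₁ ^ 2 + a * z₁ * z₂ + b * z₂ ^ 2 = 0 → z₁ = 0 ∧ z₂ = 0) :
    ClMaxA (POmega F (quadFormMinus (m - 1) F a b)) := by
  have hfin : Finite (POmega F (quadFormMinus (m - 1) F a b)) := Quotient.finite _
  obtain ⟨p, hp, hpF⟩ := exists_char_card (F := F)
  by_cases h1 : Fintype.card F = 2 ∧ m = 4
  · obtain ⟨hF, rfl⟩ := h1
    exact H503.El.clMaxA_o8m tab hK F hF a b hab
  · exact clA_of_all fun R hR =>
      der_of_miss (ominus_row tab hK hp hpF hm hab h1 (hc.ominus hp hpF hm hab h1) hR)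

end Cfsg.Agent.H304.Ela
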