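import Cfsg.Agent.H304.Ela.Red
import Cfsg.Agent.H947.El.A6
import Cfsg.Agent.H824.ProdLem
import Cfsg.Agent.ClassicalGeometry.AutPSL.Auto

/-!
# S3553: socle `A₆` (helper304)
-/

set_option autoImplicit false
set_option linter.style.haveILetI false
set_option linter.unusedSectionVars false

namespace Cfsg.Agent.H304.Ela

open Subgroup Cfsg.Agent.H396 Cfsg.Agent.H278.El
open Matrix (SpecialLinearGroup ProjectiveSpecialLinearGroup)
open Cfsg.Agent.ClassicalGeometry.AutPSL.Auto (cj coe_cj lift)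

universe u v

section pair

variable {F : Type*} [Field F] [Fintype F]

theorem two_ne (h9 : Fintype.card F = 9) : (2 : F) ≠ 0 := by
  intro h2
  have h1 : ((Fintype.card F : ℕ) : F) = 0 := FiniteField.cast_card_eq_zero F
  rw [h9] at h1
  have h3 : (1 : F) = 0 := by
    have : ((9 : ℕ) : F) = 1 + 4 * 2 := by push_cast; norm_num
    rw [this, h2, mul_zero, add_zero] at h1
    exact h1
  exact one_ne_zero h3

theorem three_eq (h9 : Fintype.card F = 9) : (3 : F) = 0 := by
  have h1 : ((Fintype.card F : ℕ) : F) = 0 := FiniteField.cast_card_eq_zero F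
  rw [h9] at h1
  have h2 : (3 : F) * 3 = 0 := by
    have : ((9 : ℕ) : F) = 3 * 3 := by push_cast; norm_num
    rw [← this]; exact h1
  exact mul_self_eq_zero.1 h2

/-- the unipotent element -/
def uu (F : Type*) [Field F] : SpecialLinearGroup (Fin 2) F := ⟨!![1, 1; 0, 1], by simp⟩

/-- an anti-diagonal matrix -/
noncomputable def aa {μ : F} (hμ : μ ≠ 0) : GL (Fin 2) F :=
  Matrix.GeneralLinearGroup.mkOfDetNeZero !![0, -μ; 1, 0] (by simpa using hμ)

theorem coe_aa {μ : F} (hμ : μ ≠ 0) : ((aa hμ : GL (Fin 2) F) : Matrix (Fin 2) (Fin 2) F) = !![0, -μ; 1, 0] := rfl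

theorem aa_sq {μ : F} (hμ : μ ≠ 0) : cj (aa hμ * aa hμ) = (1 : MulAut (SpecialLinearGroup (Fin 2) F)) := by
  apply MulEquiv.ext
  intro g
  apply Subtype.ext
  rw [coe_cj, MulAut.one_apply]
  have h1 : (((aa hμ * aa hμ : GL (Fin 2) F)) : Matrix (Fin 2) (Fin 2) F) * (g : Matrix (Fin 2) (Fin 2) F) =
      (g : Matrix (Fin 2) (Fin 2) F) * (((aa hμ * aa hμ : GL (Fin 2) F)) : Matrix (Fin 2) (Fin 2) F) := by
    rw [Units.val_mul, coe_aa]
    ext i j
    fin_cases i <;> fin_cases j <;> simp [Matrix.mul_apply, Fin.sum_univ_two] <;> ring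
  rw [h1, mul_assoc, ← Units.val_mul, mul_inv_cancel, Units.val_one, mul_one]

theorem uu_pow (h9 : Fintype.card F = 9) : (uu F) ^ 3 = 1 := by
  have h3 := three_eq h9
  apply Subtype.ext
  have h4 : ((uu F ^ 3 : SpecialLinearGroup (Fin 2) F) : Matrix (Fin 2) (Fin 2) F) = !![1, 1; 0, 1] ^ 3 := rfl
  rw [h4, pow_succ, pow_two]
  ext i j
  fin_cases i <;> fin_cases j <;> simp [Matrix.mul_apply, Fin.sum_univ_two]
  have h5 : (1 : F) + (1 + 1) = 3 := by norm_num
  rw [h5]
  exact h3

/-- the projection -/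
abbrev pr2 (F : Type*) [Field F] : SpecialLinearGroup (Fin 2) F →* ProjectiveSpecialLinearGroup (Fin 2) F :=
  QuotientGroup.mk' (Subgroup.center (SpecialLinearGroup (Fin 2) F))

theorem mat_aux {μ : F} (h2 : (2 : F) ≠ 0) {P Pi A Ai : Matrix (Fin 2) (Fin 2) F} {r : F}
    (hPi : Pi * P = 1) (hAi : Ai * A = 1) (hA : A = !![0, -μ; 1, 0]) (hdP : P.det = 1)
    (h4 : P * !![1, 1; 0, 1] * Pi * (r • (1 : Matrix (Fin 2) (Fin 2) F)) = A * !![1, 1; 0, 1] * Ai) : IsSquare μ := by
  have hAi2 : A * Ai = 1 := mul_eq_one_comm.1 hAi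
  have htr : (2 : F) * r = 2 := by
    have h5 := congrArg Matrix.trace h4
    rw [Matrix.mul_smul, Matrix.mul_one, Matrix.trace_smul, Matrix.trace_mul_comm, ← mul_assoc, hPi, one_mul,
      Matrix.trace_mul_comm, ← mul_assoc, hAi, one_mul, Matrix.trace_fin_two] at h5
    simp at h5
    linear_combination h5
  have hr1 : r = 1 := mul_left_cancel₀ h2 (by rw [htr, mul_one])
  rw [hr1, one_smul, mul_one] at h4
  -- `B = a⁻¹ g` commutes with `u`
  set B : Matrix (Fin 2) (Fin 2) F := Ai * P with hB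
  have hBu : B * !![1, 1; 0, 1] = !![1, 1; 0, 1] * B := by
    calc B * !![1, 1; 0, 1] = Ai * (P * !![1, 1; 0, 1] * Pi) * P := by
          rw [hB]
          simp only [mul_assoc, hPi, mul_one]
      _ = Ai * A * !![1, 1; 0, 1] * B := by
          rw [h4, hB]
          simp only [mul_assoc]
      _ = _ := by rw [hAi, one_mul]
  have h6 := congrFun (congrFun hBu 0) 1
  have h7 := congrFun (congrFun hBu 0) 0
  simp [Matrix.mul_apply, Fin.sum_univ_two] at h6 h7
  have hdB : B.det = B 0 0 * B 0 0 := by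
    rw [Matrix.det_fin_two, h7, mul_zero, sub_zero]
    have : B 0 0 = B 1 1 := by linear_combination h6
    rw [← this]
  have hdB2 : μ * B.det = 1 := by
    have h9 : A * B = P := by rw [hB, ← mul_assoc, hAi2, one_mul]
    have h10 := congrArg Matrix.det h9
    rw [Matrix.det_mul, hdP, hA, Matrix.det_fin_two] at h10
    simp at h10
    exact h10
  have hb0 : B 0 0 ≠ 0 := by
    intro h
    rw [hdB, h, mul_zero, mul_zero] at hdB2
    exact zero_ne_one hdB2
  refine ⟨(B 0 0)⁻¹, ?_⟩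
  rw [hdB] at hdB2
  field_simp
  linear_combination hdB2

theorem exists_inv (h9 : Fintype.card F = 9) :
    ∃ (x : ProjectiveSpecialLinearGroup (Fin 2) F) (α : MulAut (ProjectiveSpecialLinearGroup (Fin 2) F)),
      orderOf x = 3 ∧ orderOf α = 2 ∧ ¬ IsConj x (α x) := by
  have h2 := two_ne h9
  have hch : ringChar F ≠ 2 := by
    intro h
    apply h2
    have := ringChar.spec F 2
    rw [h] at this
    exact_mod_cast this.2 dvd_rfl
  obtain ⟨μ, hμ⟩ := FiniteField.exists_nonsquare hch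
  have hμ0 : μ ≠ 0 := by
    rintro rfl
    exact hμ ⟨0, by simp⟩
  have hnc : ¬ IsConj (pr2 F (uu F)) (lift (cj (aa hμ0)) (pr2 F (uu F))) := by
    intro h
    obtain ⟨c, hc⟩ := isConj_iff.1 h
    obtain ⟨g, rfl⟩ := QuotientGroup.mk'_surjective _ c
    have h3 : lift (cj (aa hμ0)) (pr2 F (uu F)) = pr2 F (cj (aa hμ0) (uu F)) := rfl
    rw [h3, ← map_inv, ← map_mul, ← map_mul] at hc
    obtain ⟨z, hz, hz2⟩ := (QuotientGroup.mk'_eq_mk' _).1 hc
    obtain ⟨r, hr, hrz⟩ := Matrix.SpecialLinearGroup.mem_center_iff.1 hz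
    have hrz' : (z : Matrix (Fin 2) (Fin 2) F) = r • 1 := by
      rw [← hrz, Matrix.scalar_apply, Matrix.smul_one_eq_diagonal]
    apply hμ
    refine mat_aux h2 (P := (g : Matrix (Fin 2) (Fin 2) F))
      (Pi := ((g⁻¹ : SpecialLinearGroup (Fin 2) F) : Matrix (Fin 2) (Fin 2) F))
      (A := ((aa hμ0 : GL (Fin 2) F) : Matrix (Fin 2) (Fin 2) F))
      (Ai := (((aa hμ0)⁻¹ : GL (Fin 2) F) : Matrix (Fin 2) (Fin 2) F)) (r := r) ?_ ?_ (coe_aa hμ0) g.2 ?_
    · rw [← Matrix.SpecialLinearGroup.coe_mul, inv_mul_cancel, Matrix.SpecialLinearGroup.coe_one]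
    · rw [← Units.val_mul, inv_mul_cancel, Units.val_one]
    · have h5 := congrArg Subtype.val hz2
      rw [coe_cj] at h5
      rw [← hrz']
      exact h5
  refine ⟨pr2 F (uu F), lift (cj (aa hμ0)), ?_, ?_, hnc⟩
  · have : Fact (Nat.Prime 3) := ⟨Nat.prime_three⟩
    apply orderOf_eq_prime
    · rw [← map_pow, uu_pow h9, map_one]
    · intro h
      apply hnc
      rw [h, map_one]
  · have : Fact (Nat.Prime 2) := ⟨Nat.prime_two⟩
    apply orderOf_eq_prime
    · rw [pow_two, ← map_mul, ← map_mul, aa_sq, map_one]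
    · intro h
      apply hnc
      rw [h, MulAut.one_apply]

end pair

/-- `A₆` -/
theorem AS.a6 {T : Type u} [Group T] (hT : Nonempty (T ≃* alternatingGroup (Fin 6))) : AS T := by
  intro G _ _ N _ e hC H hNH hE
  have h9 : Fintype.card S0254.K9 = 9 := S0254.card_k9
  obtain ⟨f⟩ := hT
  obtain ⟨f'⟩ := S0254.result (F := S0254.K9) h9
  let P := ProjectiveSpecialLinearGroup (Fin 2) S0254.K9
  let ε : N ≃* P := (e.trans f).trans f'.symm
  obtain ⟨x₁, α₀, hx₁, hα₀, hnc⟩ := exists_inv h9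
  have hM := tr_ne_top ε hNH
  have hnd := not_der ε hE
  obtain ⟨k⟩ : Nonempty (tr ε H ≃* alternatingGroup (Fin 5)) := by
    rcases H947.El.psl2_aux (by rw [h9]; norm_num) (tr ε H) hM with h | ⟨-, h⟩
    · exact absurd h hnd
    · exact h
  -- elements of order three
  have hconj : ∀ a b : P, a ∈ tr ε H → b ∈ tr ε H → orderOf a = 3 → orderOf b = 3 → IsConj a b := by
    intro a b ha hb hao hbo
    have h1 : IsConj (k ⟨a, ha⟩) (k ⟨b, hb⟩) := by
      apply H947.El.isConj_five
      · rw [MulEquiv.orderOf_eq, Subgroup.orderOf_mk, hao]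
      · rw [MulEquiv.orderOf_eq, Subgroup.orderOf_mk, hbo]
    obtain ⟨c, hc⟩ := isConj_iff.1 h1
    refine isConj_iff.2 ⟨(k.symm c : tr ε H), ?_⟩
    have h2 : (k.symm c) * (⟨a, ha⟩ : tr ε H) * (k.symm c)⁻¹ = ⟨b, hb⟩ := by
      apply k.injective
      rw [map_mul, map_mul, map_inv, MulEquiv.apply_symm_apply]
      exact hc
    exact congrArg Subtype.val h2
  obtain ⟨g₁, hg₁⟩ := exists_cjn_mem ε hE (x := x₁) (by rw [hx₁]; exact Nat.prime_three)
  set x : P := cjn ε g₁ x₁ with hx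
  have hxo : orderOf x = 3 := by rw [hx, MulEquiv.orderOf_eq, hx₁]
  have hmul : ∀ (α : MulAut P) {a b : P}, IsConj a b → IsConj (α a) (α b) := by
    intro α a b h
    obtain ⟨c, hc⟩ := isConj_iff.1 h
    exact isConj_iff.2 ⟨α c, by rw [← hc, map_mul, map_mul, map_inv]⟩
  let G₀ : Subgroup G :=
    { carrier := {g | IsConj (cjn ε g x) x}
      mul_mem' := by
        intro a b ha hb
        change IsConj (cjn ε (a * b) x) x
        rw [map_mul, MulAut.mul_apply]
        exact (hmul (cjn ε a) hb).trans ha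
      one_mem' := by
        change IsConj (cjn ε 1 x) x
        rw [map_one]
        exact IsConj.refl _
      inv_mem' := by
        intro a ha
        change IsConj (cjn ε a⁻¹ x) x
        have h1 := hmul (cjn ε a⁻¹) ha
        rw [← MulAut.mul_apply, ← map_mul, inv_mul_cancel, map_one, MulAut.one_apply] at h1
        exact h1.symm }
  have hG₀ : ∀ g, g ∈ G₀ ↔ IsConj (cjn ε g x) x := fun g => Iff.rfl
  have hH : H ≤ G₀ := by
    intro h hh
    rw [hG₀]
    refine hconj _ _ (cjn_tr ε hh hg₁) hg₁ ?_ hxo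
    rw [MulEquiv.orderOf_eq, hxo]
  have hN : N ≤ G₀ := by
    intro n hn
    rw [hG₀]
    have h1 : cjn ε n = MulAut.conj (ε ⟨n, hn⟩) := cjn_mem ε ⟨n, hn⟩
    rw [h1]
    refine isConj_iff.2 ⟨(ε ⟨n, hn⟩)⁻¹, ?_⟩
    rw [MulAut.conj_apply]
    group
  have hne : G₀ ≠ ⊤ := by
    intro ht
    have hall : ∀ y : P, orderOf y = 3 → IsConj y x := by
      intro y hy
      obtain ⟨g, hg⟩ := exists_cjn_mem ε hE (x := y) (by rw [hy]; exact Nat.prime_three)
      have h1 : IsConj (cjn ε g y) x := hconj _ _ hg hg₁ (by rw [MulEquiv.orderOf_eq, hy]) hxo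
      have h2 := hmul (cjn ε g⁻¹) h1
      rw [← MulAut.mul_apply, ← map_mul, inv_mul_cancel, map_one, MulAut.one_apply] at h2
      have h3 : g⁻¹ ∈ G₀ := by rw [ht]; trivial
      exact h2.trans h3
    apply hnc
    exact (hall x₁ hx₁).trans (hall (α₀ x₁) (by rw [MulEquiv.orderOf_eq, hx₁])).symm
  -- orders
  have hcP : Nat.card P = 360 := by
    rw [Nat.card_congr f'.toEquiv, Nat.card_eq_fintype_card]
    have := card_alternatingGroup (α := Fin 6)
    rw [Fintype.card_fin] at this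
    rw [this]
    rfl
  have hcN : Nat.card N = 360 := by rw [Nat.card_congr ε.toEquiv, hcP]
  have hcA : Nat.card (MulAut P) = 1440 := by
    rw [← H824.ProdLem.card_aut_a6]
    exact Nat.card_congr (MulAut.congr f').toEquiv
  have hfin : Finite (MulAut P) := Nat.finite_of_card_ne_zero (by rw [hcA]; norm_num)
  have hinj := cjn_injective ε hC
  have hdvd : Nat.card G ∣ 1440 := by
    rw [← hcA]
    exact Subgroup.card_dvd_of_injective (cjn ε) hinj
  have hidx := N.index_mul_card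
  rw [hcN] at hidx
  have hi4 : N.index ∣ 4 := by
    have h1 : N.index * 360 ∣ 4 * 360 := by rw [hidx]; exact hdvd
    exact Nat.dvd_of_mul_dvd_mul_right (by norm_num) h1
  have hi : N.index = 1 ∨ N.index = 2 ∨ N.index = 4 := by
    have : N.index ∈ Nat.divisors 4 := Nat.mem_divisors.2 ⟨hi4, by norm_num⟩
    have h4 : Nat.divisors 4 = {1, 2, 4} := by decide
    rw [h4] at this
    simpa using this
  rcases hi with h1 | h1 | h1
  · exfalso
    rw [Subgroup.index_eq_one] at h1
    apply hne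
    rw [eq_top_iff, ← h1]
    exact hN
  · have h2 : G₀.index ∣ 2 := by
      rw [← h1]
      exact Subgroup.index_dvd_of_le hN
    have h3 : G₀.index = 2 := by
      rcases (Nat.dvd_prime Nat.prime_two).1 h2 with h | h
      · exact absurd (Subgroup.index_eq_one.1 h) hne
      · exact h
    have h4 : N = G₀ := by
      apply Subgroup.eq_of_le_of_card_ge hN
      have h5 := G₀.index_mul_card
      rw [h1] at hidx
      rw [h3] at h5
      rw [hcN]
      omega
    have h5 : H ≤ N := by rw [h4]; exact hH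
    have h6 : Nat.card H = 60 := by
      have h7 : Nat.card (tr ε H) = 60 := by
        rw [Nat.card_congr k.toEquiv, Nat.card_eq_fintype_card]
        have := card_alternatingGroup (α := Fin 5)
        rw [Fintype.card_fin] at this
        rw [this]
        rfl
      rw [tr, Subgroup.card_map_of_injective ε.injective] at h7
      rw [← h7]
      exact (Nat.card_congr (Subgroup.subgroupOfEquivOfLe h5).toEquiv).symm
    rw [h1] at hidx
    rw [← hidx, h6]
    exact ⟨rfl, Or.inr rfl⟩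
  · exfalso
    have h2 : Nat.card G = 1440 := by rw [← hidx, h1]
    have hbij : Function.Bijective (cjn ε) := by
      rw [Nat.bijective_iff_injective_and_card]
      exact ⟨hinj, by rw [h2, hcA]⟩
    obtain ⟨a, ha⟩ := hbij.2 (cjn ε g₁ * α₀ * (cjn ε g₁)⁻¹)
    have hao : orderOf a = 2 := by
      rw [← orderOf_injective (cjn ε) hinj a, ha, ← MulAut.conj_apply, MulEquiv.orderOf_eq, hα₀]
    obtain ⟨g, hg⟩ := hE a (by rw [hao]; exact Nat.prime_two)
    have hcomm : ∀ u v : G ⧸ N, u * v = v * u := by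
      have : Fact (Nat.Prime 2) := ⟨Nat.prime_two⟩
      have h3 : Nat.card (G ⧸ N) = 2 ^ 2 := by
        rw [← Subgroup.index_eq_card, h1]
        norm_num
      exact (IsPGroup.isMulCommutative_of_card_eq_prime_sq h3).is_comm.comm
    have h3 : g⁻¹ * (g * a * g⁻¹) * g * (g * a * g⁻¹)⁻¹ ∈ N := by
      rw [← QuotientGroup.eq_one_iff]
      change QuotientGroup.mk' N (g⁻¹ * (g * a * g⁻¹) * g * (g * a * g⁻¹)⁻¹) = 1
      rw [map_mul, map_mul, map_mul, map_inv _ (g * a * g⁻¹), map_inv _ g]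
      generalize QuotientGroup.mk' N (g * a * g⁻¹) = w
      rw [hcomm _ w, inv_mul_cancel_right, mul_inv_cancel]
    have h4 : a ∈ G₀ := by
      have h5 := G₀.mul_mem (hN h3) (hH hg)
      have h6 : g⁻¹ * (g * a * g⁻¹) * g * (g * a * g⁻¹)⁻¹ * (g * a * g⁻¹) = a := by group
      rw [h6] at h5
      exact h5
    have h7 : cjn ε a x = cjn ε g₁ (α₀ x₁) := by
      rw [ha, hx, MulAut.mul_apply, MulAut.mul_apply, MulAut.inv_apply_self]
    rw [hG₀, h7] at h4
    have h5 := hmul (cjn ε g₁)⁻¹ h4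
    rw [hx, MulAut.inv_apply_self, MulAut.inv_apply_self] at h5
    exact hnc h5.symm

end Cfsg.Agent.H304.Ela
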