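import Cfsg.Agent.H304.Ela.Coset
import Cfsg.Agent.H304.Ela.FamA
import Cfsg.Agent.H304.Ela.O8A
import Cfsg.Agent.S0296
import Cfsg.Agent.H503.El.O8Aut
import Cfsg.Agent.H858.CgOrthC

/-!
# `PΩ^+_8(q)` by the cosets of the semilinear automorphisms (helper304, for S3553)
-/

set_option autoImplicit false
set_option linter.style.haveILetI false
set_option linter.unusedSectionVars false

namespace Cfsg.Agent.H304.Ela

open Cfsg Cfsg.Agent.OrdDiv Cfsg.Agent.H278.El Cfsg.Agent.H278.El.Asm Cfsg.Agent.H264.FKS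
open Cfsg.Agent.H198.OrthFrame Cfsg.Agent.H198.Carriers

variable {F : Type} [Field F] [Fintype F]

theorem prim_five : Cfsg.Agent.H436.Prim 2 4 5 := by
  refine ⟨by norm_num, fun m => ?_, by norm_num⟩
  have h1 : 2 ^ m = 16 ^ (m / 4) * 2 ^ (m % 4) := by
    rw [show (16 : ℕ) = 2 ^ 4 by norm_num, ← pow_mul, ← pow_add, Nat.div_add_mod]
  have h2 : 16 ^ (m / 4) % 5 = 1 := by
    rw [Nat.pow_mod]
    norm_num
  have h3 : 2 ^ m % 5 = 2 ^ (m % 4) % 5 := by
    rw [h1, Nat.mul_mod, h2, one_mul, Nat.mod_mod]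
  have h4 : 1 ≤ 2 ^ m := Nat.one_le_two_pow
  have h5 : m % 4 < 4 := Nat.mod_lt _ (by norm_num)
  constructor
  · intro h
    have h6 : 2 ^ m % 5 = 1 := by omega
    rw [h3] at h6
    apply Nat.dvd_of_mod_eq_zero
    generalize m % 4 = j at h5 h6 ⊢
    interval_cases j <;> simp_all
  · intro h
    rw [Nat.mod_eq_zero_of_dvd h] at h3
    omega

/-- **`PΩ^+_8(2)`**, semilinear version. -/
theorem oplus_four_two (tab : OrderTable.{0}) (hK : Kn) (hF : Fintype.card F = 2)
    {R : Subgroup (POmega F (quadFormPlus 4 F))} (hR : R ≠ ⊤) : DerS (quadFormPlus 4 F) R := by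
  rcases H503.El.der_or_25 tab hK F hF R hR with h | h
  · exact derS_of_der h
  · have hfin : Finite (POmega F (quadFormPlus 4 F)) := Quotient.finite _
    refine derS_plus (r := 5) ?_ le_rfl rfl R (cyc_of_card (by norm_num) h)
    rw [Nat.card_eq_fintype_card, hF]
    exact prim_five

/-- **`PΩ^+_8(q)`**, semilinear version. -/
theorem oplus_four_all (tab : OrderTable.{0}) (hK : Kn) (hc : CrossRowsM)
    {R : Subgroup (POmega F (quadFormPlus 4 F))} (hR : R ≠ ⊤) : DerS (quadFormPlus 4 F) R := by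
  by_cases h2 : Fintype.card F = 2
  · exact oplus_four_two tab hK h2 hR
  · obtain ⟨p, hp, hpF⟩ := exists_char_card (F := F)
    exact oplus_four tab hK hp hpF h2 (hc.oplus hp hpF le_rfl (by omega)) hR

/-- **`PΩ^+_8(p^f)`, `f` prime to three.** -/
theorem AS.o8 {T : Type*} [Group T] [Finite T] (tab : OrderTable.{0}) (hK : Kn) (hc : CrossRowsM) {p f : ℕ}
    (hp : p.Prime) (hf : 1 ≤ f) (hF : Fintype.card F = p ^ f) (h3 : ¬ 3 ∣ f)
    (eT : T ≃* POmega F (quadFormPlus 4 F)) : AS T := by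
  intro G _ _ N _ e hC H hNH hE
  exfalso
  have hs : IsSimpleGroup (POmega F (quadFormPlus 4 F)) := Cfsg.Agent.S0296.result 4 le_rfl
  have hfin : Finite (POmega F (quadFormPlus 4 F)) := Quotient.finite _
  have hG := good_plusQ (F := F) (m := 4) (by omega)
  have hna : ¬ IsMulCommutative (POmega F (quadFormPlus 4 F)) := H858.CgOrth.not_comm_POmega hG
  obtain ⟨ρ, hρ⟩ := H198.TriInn.exists_triality (plusQ_eq 4 F) hG (neutral_plusQ 4 F)
  have hcard := H934.OutB.card_out_mul (POmega F (quadFormPlus 4 F)) hna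
  refine coset_kill (P := POmega F (quadFormPlus 4 F)) (Phi hG).range (index_range hρ) (conj_mem_range hG) ρ hρ.cube
    hρ.not_mem (k := Nat.card (Cfsg.Out (POmega F (quadFormPlus 4 F)))) (by rw [mul_comm]; exact hcard.symm) ?_ ?_ N
    (e.trans eT) hC H hNH hE
  · intro h9
    apply h3
    rcases card_out_o8 hp hf hF with h | h
    · rw [h] at h9
      omega
    · rw [h] at h9
      omega
  · intro R hR
    obtain ⟨x, hx, h⟩ := oplus_four_all tab hK hc hR
    exact ⟨x, hx, fun α hα => h α (semi_of_range hG hα)⟩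

end Cfsg.Agent.H304.Ela
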