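import Cfsg.Agent.H304.Ela.Cyc

/-!
# Stabilisers of points: cyclic Sylow subgroups (helper304, for S3553)
-/

set_option autoImplicit false
set_option linter.style.haveILetI false
set_option linter.unusedSectionVars false

namespace Cfsg.Agent.H304.Ela

open Module QuadraticMap Cfsg Cfsg.Geo Cfsg.Agent.H436 Cfsg.Agent.H264.FKS
open Cfsg.Agent.H884.El (pre mem_pre inv_of_mem)
open scoped Matrix

universe u

section

variable {ι : Type} [Fintype ι] [DecidableEq ι] {F : Type} [Field F] [Finite F]

/-- the action on the quotient by an invariant subspace -/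
noncomputable def quo {P : Type*} [Group P] (ρ : P →* Module.End F (ι → F)) (U : Submodule F (ι → F))
    (h : ∀ g, ∀ u ∈ U, ρ g u ∈ U) : P →* Module.End F ((ι → F) ⧸ U) where
  toFun g := U.mapQ U (ρ g) (h g)
  map_one' := by
    ext x
    simp
  map_mul' a b := by
    ext x
    simp

theorem scalar_pow {r e : ℕ} (hr : Prim (Nat.card F) e r) (he : 2 ≤ e) {a : F} (k : ℕ) (h : a ^ (r ^ k) = 1) :
    a = 1 := by
  induction k with
  | zero => simpa using h
  | succ k ih =>
    rw [pow_succ, pow_mul] at h
    exact ih (scalar_eq_one hr he h)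

/-- **An `r`-group stabilising a point is cyclic.** -/
theorem cyclic_of_line {P : Type*} [Group P] [Finite P] {r e : ℕ} (hr : Prim (Nat.card F) e r) (he : 2 ≤ e)
    (hdim : Fintype.card ι ≤ 2 * e) (σ : P →* Matrix.GeneralLinearGroup ι F) (hσ : Function.Injective σ)
    (hP : IsPGroup r P) {v : ι → F} (hv : v ≠ 0)
    (hinv : ∀ g : P, ∀ u ∈ Submodule.span F {v}, lin σ g u ∈ Submodule.span F {v}) : IsCyclic P := by
  haveI : Fact r.Prime := ⟨hr.prime⟩
  have hfr : finrank F ((ι → F) ⧸ Submodule.span F {v}) + 1 = Fintype.card ι := by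
    have h1 := Submodule.finrank_quotient_add_finrank (Submodule.span F {v})
    rw [finrank_span_singleton hv, Module.finrank_fintype_fun_eq_card] at h1
    exact h1
  let b := Module.finBasis F ((ι → F) ⧸ Submodule.span F {v})
  let τ : P →* Matrix.GeneralLinearGroup (Fin (finrank F ((ι → F) ⧸ Submodule.span F {v}))) F :=
    MonoidHom.toHomUnits (((LinearMap.toMatrixAlgEquiv b).toAlgHom : _ →* _).comp
      (quo (lin σ) (Submodule.span F {v}) hinv))
  have hτ : Function.Injective τ := by
    rw [injective_iff_map_eq_one]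
    intro g hg
    have h1 : quo (lin σ) (Submodule.span F {v}) hinv g = 1 := by
      have h2 := congrArg Units.val hg
      have h3 : LinearMap.toMatrixAlgEquiv b (quo (lin σ) (Submodule.span F {v}) hinv g) = 1 := h2
      rw [← map_one (LinearMap.toMatrixAlgEquiv b)] at h3
      exact (LinearMap.toMatrixAlgEquiv b).injective h3
    obtain ⟨k, hk⟩ := hP g
    -- the eigenvalue on `v`
    obtain ⟨a, ha⟩ := Submodule.mem_span_singleton.1 (hinv g v (Submodule.mem_span_singleton_self v))
    have hpow : ∀ n : ℕ, lin σ (g ^ n) v = a ^ n • v := by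
      intro n
      induction n with
      | zero => simp
      | succ n ih =>
        rw [pow_succ', map_mul, Module.End.mul_apply, ih, map_smul, ← ha, smul_smul, pow_succ]
    have ha1 : a ^ (r ^ k) = 1 := by
      have h2 := hpow (r ^ k)
      rw [hk, map_one, Module.End.one_apply] at h2
      have h3 : (1 - a ^ (r ^ k)) • v = 0 := by rw [sub_smul, one_smul, ← h2, sub_self]
      rcases smul_eq_zero.1 h3 with h4 | h4
      · exact (sub_eq_zero.1 h4).symm
      · exact absurd h4 hv
    have ha2 : a = 1 := scalar_pow hr he k ha1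
    -- `g - 1` maps into the line
    have h4 : ∀ w, ∃ c : F, lin σ g w = w + c • v := by
      intro w
      have h5 := congrArg (fun f : Module.End F ((ι → F) ⧸ Submodule.span F {v}) => f (Submodule.Quotient.mk w)) h1
      have h6 : Submodule.Quotient.mk (p := Submodule.span F {v}) (lin σ g w) = Submodule.Quotient.mk w := h5
      rw [Submodule.Quotient.eq, Submodule.mem_span_singleton] at h6
      obtain ⟨c, hc⟩ := h6
      exact ⟨c, by rw [hc]; abel⟩
    rw [ha2, one_smul] at ha
    have h7 : ∀ w, ∀ c : F, lin σ g w = w + c • v → ∀ n : ℕ, lin σ (g ^ n) w = w + (n * c) • v := by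
      intro w c hc n
      induction n with
      | zero => simp
      | succ n ih =>
        rw [pow_succ', map_mul, Module.End.mul_apply, ih, map_add, hc, map_smul, ← ha, add_assoc, ← add_smul]
        congr 2
        push_cast
        ring
    apply lin_injective hσ
    rw [map_one]
    refine LinearMap.ext fun w => ?_
    obtain ⟨c, hc⟩ := h4 w
    have h8 := h7 w c hc (r ^ k)
    rw [hk, map_one, Module.End.one_apply] at h8
    have h9 : (((r ^ k : ℕ) : F) * c) • v = 0 := by
      have := congrArg (fun x => x - w) h8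
      simpa using this.symm
    rcases smul_eq_zero.1 h9 with h10 | h10
    · rcases mul_eq_zero.1 h10 with h11 | h11
      · exfalso
        push_cast at h11
        exact cast_ne_zero' hr (eq_zero_of_pow_eq_zero h11)
      · rw [hc, h11, zero_smul, add_zero]
        rfl
    · exact absurd h10 hv
  haveI : Fintype F := Fintype.ofFinite F
  have h1 : Cyc r P := cyc_of_gl (ι := Fin (finrank F ((ι → F) ⧸ Submodule.span F {v}))) hr he
    (by rw [Fintype.card_fin]; omega) τ hτ (MonoidHom.id P) fun x => ⟨x, rfl⟩
  have h2 : IsCyclic (⊤ : Subgroup P) := h1 ⊤ (hP.to_subgroup ⊤)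
  exact isCyclic_of_surjective (Subgroup.topEquiv : (⊤ : Subgroup P) ≃* P).toMonoidHom (Subgroup.topEquiv).surjective

/-- the stabiliser of a point -/
theorem cyc_of_point {Q : QuadraticForm F (ι → F)} {r e : ℕ} (hr : Prim (Nat.card F) e r) (he : 2 ≤ e)
    (hdim : Fintype.card ι ≤ 2 * e) {M : Subgroup (POmega F (⇑Q))} {v : ι → F} (hv : v ≠ 0)
    (hM : pre (⇑Q) M ≤ subspaceStabilizer (Submodule.span F {v})) : Cyc r M := by
  haveI : Fact r.Prime := ⟨hr.prime⟩
  let K : Subgroup (Omega F (⇑Q)) := M.comap (QuotientGroup.mk' (Subgroup.center (Omega F (⇑Q))))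
  have hK : Cyc r K := by
    intro P hP
    let σ : P →* GL ι F := (isometryGroup F (⇑Q)).subtype.comp ((Omega F (⇑Q)).subtype.comp (K.subtype.comp P.subtype))
    have hσ : Function.Injective σ := (Subgroup.subtype_injective _).comp ((Subgroup.subtype_injective _).comp
      ((Subgroup.subtype_injective _).comp (Subgroup.subtype_injective _)))
    refine cyclic_of_line hr he hdim σ hσ hP hv fun g => ?_
    have h1 : σ g ∈ pre (⇑Q) M := mem_pre.2 (g : K).2
    exact inv_of_mem (hM h1)
  have hfin : Finite (Omega F (⇑Q)) := inferInstance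
  have hfin' : Finite (POmega F (⇑Q)) := Quotient.finite _
  refine hK.of_surjective (((QuotientGroup.mk' (Subgroup.center (Omega F (⇑Q)))).comp K.subtype).codRestrict M
    fun x => x.2) ?_
  rintro ⟨y, hy⟩
  obtain ⟨x, rfl⟩ := QuotientGroup.mk'_surjective (Subgroup.center (Omega F (⇑Q))) y
  exact ⟨⟨x, hy⟩, rfl⟩

end

end Cfsg.Agent.H304.Ela
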