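import Cfsg.Agent.H304.Ela.FamA
import Cfsg.Agent.H304.Ela.Line
import Cfsg.Agent.H503.El.CycPlus

/-!
# `PΩ^+_8(p^f)`, `f ≥ 2`: all automorphisms (helper304, for S3553)
-/

set_option autoImplicit false
set_option linter.style.haveILetI false
set_option linter.unusedSectionVars false

namespace Cfsg.Agent.H304.Ela

open Module QuadraticMap Cfsg Cfsg.Geo Cfsg.Agent.LieClassical Cfsg.Agent.LieClassical.OmegaReindex Cfsg.Agent.H955
open Cfsg.Agent.H278.El Cfsg.Agent.H278.El.Asm
open Cfsg.Agent.H264.FKS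
open Cfsg.Agent.H884.El (pre card_plus isPlus_quadPlus data_plus)
open Cfsg.Agent.OrdDiv (OrderTable)
open Cfsg.Agent.H436 (Prim)
open Cfsg.Agent.H396 (Der)

variable {F : Type} [Field F] [Fintype F]

/-- the geometric classes: a missing prime, the residual class, or cyclic Sylow subgroups -/
theorem geo_cyc {r : ℕ} (hr : Prim (Nat.card F) 4 r) (h2 : Nat.card F ≠ 2) (M : Subgroup (POmega F (quadFormPlus 4 F))) :
    H884.El.Miss M ∨ InOrthogonalResidualClass (pre (quadFormPlus 4 F) M) ∨ Cyc r M := by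
  have h : ∀ M : Subgroup (POmega F (⇑(quadPlus 4 F))),
      H884.El.Miss M ∨ InOrthogonalResidualClass (pre (⇑(quadPlus 4 F)) M) ∨ Cyc r M := by
    intro M
    rcases H884.El.plus_miss le_rfl (card_plus 4) (nondeg_iff.2 quadPlus_nondegenerate) (isPlus_quadPlus 4)
      (fun h => h2 h.1) (data_plus le_rfl) M with h | h | ⟨-, v, hv, hMv⟩
    · exact .inl h
    · exact .inr (.inl h)
    · refine .inr (.inr (cyc_of_point hr (by norm_num) (by rw [card_plus]) (v := v) ?_ hMv))
      rintro rfl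
      exact hv (QuadraticMap.map_zero _)
  rw [coe_quadPlus] at h
  exact h M

/-- **`PΩ^+_8(p^f)`, `f ≥ 2`** -/
theorem der_o8_big (tab : OrderTable.{0}) (hK : Kn) (hc : CrossRowsM) {p f : ℕ} (hp : p.Prime) (hf : 2 ≤ f)
    (hF : Fintype.card F = p ^ f)
    {R : Subgroup (POmega F (quadFormPlus 4 F))} (hR : R ≠ ⊤) : Der (POmega F (quadFormPlus 4 F)) R := by
  have hcyc : ∀ r : ℕ, Prim (Nat.card F) 4 r → 5 < r → ∀ R : Subgroup (POmega F (quadFormPlus 4 F)), Cyc r R →
      Der (POmega F (quadFormPlus 4 F)) R := fun r h1 h2 R h3 => H503.El.CycPlus.der_plus_four_of_cyc h1 h2 R h3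
  have hfin : Finite (POmega F (quadFormPlus 4 F)) := Quotient.finite _
  have hpF : p ∣ Fintype.card F := hF ▸ dvd_pow_self p (by omega)
  have h4 : 4 ≤ p ^ f := by
    calc 4 = 2 ^ 2 := by norm_num
      _ ≤ p ^ 2 := Nat.pow_le_pow_left hp.two_le 2
      _ ≤ p ^ f := Nat.pow_le_pow_right hp.pos hf
  have h2 : Nat.card F ≠ 2 := by
    rw [Nat.card_eq_fintype_card, hF]
    omega
  obtain ⟨r, hr, hlt⟩ := exists_big hp (show 1 ≤ f by omega) (n := 4) (by omega) (by
    rintro ⟨rfl, h⟩
    omega)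
  have hr' : Prim (Nat.card F) 4 r := by rw [Nat.card_eq_fintype_card, hF]; exact hr
  rcases geo_cyc hr' h2 R with h | h | h
  · exact der_of_miss h
  · refine oplus_res tab hK le_rfl (by rw [hF]; omega) (hc.oplus hp hpF le_rfl (by rw [hF]; omega)) hR h der_of_miss
      fun S hSn hSs hna hC g hg hch => ?_
    by_contra hcon
    have hT := named_oplus F (n := 4) le_rfl
    rw [hF] at hT
    have key : ∀ k, 2 ≤ k → k ≤ 3 → ¬ (p = 2 ∧ f * (2 * k) = 6) := by
      rintro k hk hkn ⟨rfl, h⟩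
      have h1 : f * k = 3 := by
        have : f * (2 * k) = 2 * (f * k) := by ring
        omega
      have h3 : 2 * 2 ≤ f * k := Nat.mul_le_mul hf hk
      omega
    obtain ⟨he, hg'⟩ := full_oplus hT hp (by omega) le_rfl (key 3 (by norm_num) le_rfl) (key 2 le_rfl (by norm_num)) hR
      (full_of_not_der hcon) S hna hC hg hch
    exact hcon (hcyc r hr' (by omega) R
      (cyc_four S hna hC (Or.inr hg') hg hp (by omega) hr hlt (by omega) rfl))
  · exact hcyc r hr' (by omega) R h

end Cfsg.Agent.H304.Ela
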