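import Cfsg.Agent.H304.Ela.Red

/-!
# The coset argument for triality (helper304, for S3553)

`P` a finite group, `Γ` a subgroup of index three of `Aut P` containing `Inn P`, `ρ ∈ Aut P` of order three, not in `Γ`,
`9` does not divide `|Out P|`. If every proper subgroup of `P` misses a `Γ`-class of elements of prime order, then
an almost simple group with socle `P` is not elusive.
-/

set_option autoImplicit false
set_option linter.style.haveILetI false
set_option linter.unusedSectionVars false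

namespace Cfsg.Agent.H304.Ela

open MulAction Subgroup

universe u v

section three

variable {X : Type*} (h3 : Nat.card X = 3)

include h3 in
theorem four_ne {a b c d : X} (h1 : a ≠ b) (h2 : a ≠ c) (h4 : a ≠ d) (h5 : b ≠ c) (h6 : b ≠ d) (h7 : c ≠ d) :
    False := by
  classical
  haveI : Finite X := Nat.finite_of_card_ne_zero (by omega)
  haveI : Fintype X := Fintype.ofFinite X
  have h8 : ({a, b, c, d} : Finset X).card = 4 := by
    rw [Finset.card_insert_of_notMem, Finset.card_insert_of_notMem, Finset.card_insert_of_notMem,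
      Finset.card_singleton]
    · simpa using h7
    · simp [h5, h6]
    · simp [h1, h2, h4]
  have h9 := Finset.card_le_univ ({a, b, c, d} : Finset X)
  rw [h8, ← Nat.card_eq_fintype_card, h3] at h9
  omega

include h3 in
/-- no fixed points on three points: transitive -/
theorem trans_of_no_fixed {M : Type*} [Group M] [MulAction M X] (S : Subgroup M) (hno : ∀ x : X, ∃ m ∈ S, m • x ≠ x)
    (x y : X) : ∃ m ∈ S, m • x = y := by
  by_contra hcon
  push Not at hcon
  obtain ⟨m, hm, hmx⟩ := hno x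
  obtain ⟨k, hk, hky⟩ := hno y
  have h1 : ∀ s ∈ S, ∀ t ∈ S, s • x ≠ t • y := by
    intro s hs t ht h
    refine hcon (t⁻¹ * s) (S.mul_mem (S.inv_mem ht) hs) ?_
    rw [mul_smul, h, inv_smul_smul]
  refine four_ne h3 (a := x) (b := m • x) (c := y) (d := k • y) hmx.symm ?_ ?_ ?_ ?_ hky.symm
  · have := h1 1 S.one_mem 1 S.one_mem
    rwa [one_smul, one_smul] at this
  · have := h1 1 S.one_mem k hk
    rwa [one_smul] at this
  · have := h1 m hm 1 S.one_mem
    rwa [one_smul] at this
  · exact h1 m hm k hk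

include h3 in
/-- an element of order three moving a point moves every point -/
theorem no_fixed_of_cube {M : Type*} [Group M] [MulAction M X] {ρ : M} (hρ : ρ ^ 3 = 1) {x₀ : X} (h0 : ρ • x₀ ≠ x₀)
    (x : X) : ρ • x ≠ x := by
  intro hx
  have h1 : ρ • ρ • ρ • x₀ = x₀ := by
    rw [smul_smul, smul_smul, ← pow_two, ← pow_succ, hρ, one_smul]
  have h2 : ρ • x₀ ≠ x := by
    intro h
    have h3 : ρ • x₀ = ρ • x := by rw [hx, h]
    have h4 : x₀ = x := MulAction.injective ρ h3
    exact h0 (by rw [h4, hx])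
  have h4 : x₀ ≠ x := by
    rintro rfl
    exact h0 hx
  have h5 : ρ • ρ • x₀ ≠ x := by
    intro h
    have h3 : ρ • ρ • x₀ = ρ • x := by rw [hx, h]
    exact h2 (MulAction.injective ρ h3)
  have h6 : ρ • x₀ ≠ ρ • ρ • x₀ := fun h => h0 (MulAction.injective ρ h).symm
  have h7 : x₀ ≠ ρ • ρ • x₀ := by
    intro h
    have h8 : ρ • x₀ = ρ • ρ • ρ • x₀ := congrArg (ρ • ·) h
    rw [h1] at h8
    exact h0 h8
  exact four_ne h3 (a := x) (b := x₀) (c := ρ • x₀) (d := ρ • ρ • x₀) h4.symm h2.symm h5.symm (Ne.symm h0) h7 h6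

end three

variable {P : Type v} [Group P] [Finite P]

/-- **The coset argument.** -/
theorem coset_kill (Γ : Subgroup (MulAut P)) (hΓ : Γ.index = 3) (hInn : ∀ x : P, MulAut.conj x ∈ Γ)
    (ρ : MulAut P) (h3 : ρ ^ 3 = 1) (hρ : ρ ∉ Γ) {k : ℕ} (hk : Nat.card (MulAut P) = Nat.card P * k) (h9 : ¬ 9 ∣ k)
    (hS : ∀ R : Subgroup P, R ≠ ⊤ → ∃ x : P, (orderOf x).Prime ∧ ∀ α ∈ Γ, α x ∉ R)
    {G : Type u} [Group G] [Finite G] (N : Subgroup G) [N.Normal] (e : N ≃* P)
    (hC : Subgroup.centralizer (N : Set G) = ⊥) (H : Subgroup G) (hNH : ¬ N ≤ H) (hE : Elus H) : False := by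
  haveI : Finite (MulAut P) := inferInstance
  have hX : Nat.card (MulAut P ⧸ Γ) = 3 := by rw [← hΓ]; rfl
  have hRtop := tr_ne_top e hNH
  -- the coset of `1`
  have hmk : ∀ a b : MulAut P, a • (QuotientGroup.mk b : MulAut P ⧸ Γ) = QuotientGroup.mk (a * b) := fun a b => rfl
  -- case A
  by_cases hA : ∃ x : MulAut P ⧸ Γ, ∀ g : G, cjn e g • x = x
  · obtain ⟨x, hx⟩ := hA
    obtain ⟨a, rfl⟩ := QuotientGroup.mk_surjective x
    have hR' : (tr e H).comap a.toMonoidHom ≠ ⊤ := by
      intro ht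
      apply hRtop
      rw [eq_top_iff]
      intro y _
      have : a.symm y ∈ (tr e H).comap a.toMonoidHom := by rw [ht]; trivial
      have h1 : a (a.symm y) ∈ tr e H := this
      rwa [a.apply_symm_apply] at h1
    obtain ⟨y, hy, hyα⟩ := hS _ hR'
    obtain ⟨g, hg⟩ := exists_cjn_mem e hE (x := a y) (by
      rw [show orderOf (a y) = orderOf y from orderOf_injective a.toMonoidHom a.injective y]
      exact hy)
    refine hyα (a⁻¹ * cjn e g * a) ?_ ?_
    · have h1 := hx g
      rw [hmk] at h1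
      have h2 := QuotientGroup.eq.1 h1.symm
      rwa [← mul_assoc] at h2
    · change a ((a⁻¹ * cjn e g * a) y) ∈ tr e H
      have : a ((a⁻¹ * cjn e g * a) y) = cjn e g (a y) := by
        rw [← MulAut.mul_apply, ← mul_assoc, ← mul_assoc, mul_inv_cancel, one_mul, MulAut.mul_apply]
      rw [this]
      exact hg
  push Not at hA
  -- case B
  by_cases hB : ∀ x : MulAut P ⧸ Γ, ∃ h ∈ H.map (cjn e), h • x ≠ x
  · have htr := trans_of_no_fixed hX (H.map (cjn e)) hB
    obtain ⟨x, hx, hxα⟩ := hS _ hRtop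
    obtain ⟨g, hg⟩ := exists_cjn_mem e hE hx
    obtain ⟨-, ⟨h, hh, rfl⟩, hhx⟩ := htr (QuotientGroup.mk 1) (QuotientGroup.mk (cjn e g))
    rw [hmk, mul_one] at hhx
    have h1 := QuotientGroup.eq.1 hhx
    refine hxα _ h1 ?_
    rw [MulAut.mul_apply, ← map_inv]
    exact cjn_tr e (H.inv_mem hh) hg
  push Not at hB
  obtain ⟨x, hx⟩ := hB
  -- case C
  have hρx : ∀ y : MulAut P ⧸ Γ, ρ • y ≠ y := by
    refine no_fixed_of_cube hX h3 (x₀ := QuotientGroup.mk 1) ?_
    rw [hmk, mul_one]
    intro h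
    apply hρ
    have h1 := QuotientGroup.eq.1 h.symm
    rwa [inv_one, one_mul] at h1
  have htr := trans_of_no_fixed hX (cjn e).range (fun y => by
    obtain ⟨g, hg⟩ := hA y
    exact ⟨_, ⟨g, rfl⟩, hg⟩)
  -- three divides the index of `N`
  have hNi : 3 ∣ N.index := by
    let S : Subgroup G := (stabilizer (MulAut P) (QuotientGroup.mk 1 : MulAut P ⧸ Γ)).comap (cjn e)
    have hNS : N ≤ S := by
      intro n hn
      change cjn e n ∈ stabilizer (MulAut P) (QuotientGroup.mk 1 : MulAut P ⧸ Γ)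
      rw [mem_stabilizer_iff, show n = ((⟨n, hn⟩ : N) : G) from rfl, cjn_mem, hmk, mul_one]
      apply Eq.symm
      rw [QuotientGroup.eq, inv_one, one_mul]
      exact hInn _
    have hSi : S.index = 3 := by
      letI : MulAction G (MulAut P ⧸ Γ) := MulAction.compHom _ (cjn e)
      have hpre : MulAction.IsPretransitive G (MulAut P ⧸ Γ) := ⟨fun a b => by
        obtain ⟨-, ⟨g, rfl⟩, hg⟩ := htr a b
        exact ⟨g, hg⟩⟩
      have h1 := MulAction.index_stabilizer_of_transitive G (QuotientGroup.mk 1 : MulAut P ⧸ Γ)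
      rw [hX] at h1
      rw [← h1]
      rfl
    rw [← hSi]
    exact Subgroup.index_dvd_of_le hNS
  -- the Sylow `3`-subgroups of `G` are Sylow in `Aut P`
  haveI : Fact (Nat.Prime 3) := ⟨Nat.prime_three⟩
  obtain ⟨Q⟩ : Nonempty (Sylow 3 G) := inferInstance
  have hinj := cjn_injective e hC
  have hG : Nat.card G = Nat.card P * N.index := by
    rw [← Nat.card_congr e.toEquiv, N.card_mul_index]
  have hdvd : Nat.card G ∣ Nat.card (MulAut P) := by
    rw [Nat.card_congr (MonoidHom.ofInjective hinj).toEquiv]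
    exact Subgroup.card_subgroup_dvd_card _
  have hP0 : Nat.card P ≠ 0 := Nat.card_pos.ne'
  have hi0 : N.index ≠ 0 := by
    have : 0 < Nat.card G := Nat.card_pos
    intro h
    rw [hG, h, mul_zero] at this
    omega
  have hk0 : k ≠ 0 := by
    rintro rfl
    exact h9 (dvd_zero 9)
  have hf1 : (Nat.card G).factorization 3 = (Nat.card P).factorization 3 + N.index.factorization 3 := by
    rw [hG, Nat.factorization_mul hP0 hi0]
    rfl
  have hf2 : (Nat.card (MulAut P)).factorization 3 = (Nat.card P).factorization 3 + k.factorization 3 := by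
    rw [hk, Nat.factorization_mul hP0 hk0]
    rfl
  have hf3 : 1 ≤ N.index.factorization 3 :=
    (Nat.prime_three.dvd_iff_one_le_factorization hi0).1 hNi
  have hf4 : k.factorization 3 ≤ 1 := by
    by_contra hcon
    push Not at hcon
    apply h9
    exact (pow_dvd_pow 3 hcon).trans (Nat.ordProj_dvd k 3)
  have hf5 : (Nat.card G).factorization 3 ≤ (Nat.card (MulAut P)).factorization 3 :=
    (Nat.factorization_le_iff_dvd (Nat.card_pos.ne') (Nat.card_pos.ne')).2 hdvd 3
  have hf6 : (Nat.card G).factorization 3 = (Nat.card (MulAut P)).factorization 3 := by omega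
  have hQ : Nat.card (Q.1.map (cjn e)) = 3 ^ (Nat.card (MulAut P)).factorization 3 := by
    rw [Subgroup.card_map_of_injective hinj, ← hf6]
    exact Q.card_eq_multiplicity
  let Q' : Sylow 3 (MulAut P) := Sylow.ofCard (Q.1.map (cjn e)) hQ
  have hz : IsPGroup 3 (Subgroup.zpowers ρ) := by
    have : Nat.card (Subgroup.zpowers ρ) ∣ 3 ^ 1 := by
      rw [Nat.card_zpowers, pow_one]
      exact orderOf_dvd_of_pow_eq_one h3
    obtain ⟨j, -, hj⟩ := (Nat.dvd_prime_pow Nat.prime_three).1 this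
    exact IsPGroup.of_card hj
  obtain ⟨S, hS'⟩ := hz.exists_le_sylow
  obtain ⟨a, ha⟩ := MulAction.exists_smul_eq (MulAut P) S Q'
  have h1 : a * ρ * a⁻¹ ∈ (Q' : Subgroup (MulAut P)) := by
    rw [← ha, Sylow.coe_subgroup_smul]
    refine ⟨ρ, hS' (Subgroup.mem_zpowers ρ), rfl⟩
  have h2 : a * ρ * a⁻¹ ∈ Q.1.map (cjn e) := h1
  obtain ⟨g, -, hg⟩ := h2
  have hord : orderOf g = 3 := by
    rw [← orderOf_injective (cjn e) hinj g, hg]
    apply orderOf_eq_prime
    · rw [conj_pow, h3, mul_one, mul_inv_cancel]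
    · intro h
      apply hρ
      rw [conj_eq_one_iff.1 h]
      exact Γ.one_mem
  obtain ⟨g', hg'⟩ := hE g (by rw [hord]; exact Nat.prime_three)
  have h4 := hx _ ⟨_, hg', rfl⟩
  have h5 : ρ • ((a⁻¹ * (cjn e g')⁻¹) • x) = (a⁻¹ * (cjn e g')⁻¹) • x := by
    have h6 : cjn e g = a * ρ * a⁻¹ := hg
    have h7 : (cjn e g' * (a * ρ * a⁻¹) * (cjn e g')⁻¹) • x = x := by
      rw [map_mul, map_mul, map_inv, h6] at h4
      exact h4
    have h8 : ρ * (a⁻¹ * (cjn e g')⁻¹) = (a⁻¹ * (cjn e g')⁻¹) * (cjn e g' * (a * ρ * a⁻¹) * (cjn e g')⁻¹) := by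
      group
    rw [smul_smul, h8, mul_smul, h7]
  exact hρx _ h5

end Cfsg.Agent.H304.Ela
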