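import Cfsg.Agent.H304.Ela.Orth
import Cfsg.Agent.H264.FKS.Char
import Cfsg.Agent.H198.OrthGamma
import Cfsg.Agent.H198.SympGamma

/-!
# Semilinear versions of the rows of `H264/FKS` (helper304, for S3553)
-/

set_option autoImplicit false
set_option linter.unusedSectionVars false
set_option linter.style.haveILetI false

namespace Cfsg.Agent.H304.Ela

open Cfsg Cfsg.Agent.OrdDiv Cfsg.Agent.H436 Cfsg.Agent.H915.GN Cfsg.Agent.H264.GN Cfsg.Agent.H200.LinFix Module
  Cfsg.Agent.LieClassical.OmegaReindex Cfsg.Agent.H264.FKS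
open Cfsg.Agent.H396 (Der)

universe u v

/-! ### The core -/

section

variable {F : Type*} [Field F] [Finite F] {ι : Type*} [Fintype ι] [DecidableEq ι] {X T : Type*} [Group X] [Finite X]
  [Group T]

/-- kernel elements of order dividing `r` -/
theorem ker_one (σ : X →* Matrix.GeneralLinearGroup ι F) (hσ : Function.Injective σ) (π : X →* T)
    (hker : ∀ k : X, π k = 1 → ∃ a : F, (σ k : Matrix ι ι F) = a • 1) {r e : ℕ}
    (hr : Prim (Nat.card F) e r) (he : 2 ≤ e) {k : X} (hk : π k = 1) (hkr : k ^ r = 1) : k = 1 := by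
  obtain ⟨a, ha⟩ := hker k hk
  apply hσ
  apply Units.ext
  rw [map_one, ha]
  rcases isEmpty_or_nonempty ι with hι | ⟨⟨i⟩⟩
  · ext i; exact (hι.false i).elim
  · have h3 : (a • (1 : Matrix ι ι F)) ^ r = 1 := by
      rw [← ha, ← Units.val_pow_eq_pow_val, ← map_pow, hkr, map_one, Units.val_one]
    rw [smul_pow, one_pow] at h3
    have h4 := congrFun (congrFun h3 i) i
    rw [Matrix.smul_apply, Matrix.one_apply_eq, smul_eq_mul, mul_one] at h4
    rw [scalar_eq_one hr he h4, one_smul, Units.val_one]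

theorem orderOf_pi (σ : X →* Matrix.GeneralLinearGroup ι F) (hσ : Function.Injective σ) (π : X →* T)
    (hker : ∀ k : X, π k = 1 → ∃ a : F, (σ k : Matrix ι ι F) = a • 1) {r e : ℕ}
    (hr : Prim (Nat.card F) e r) (he : 2 ≤ e) {y : X} (hy : orderOf y = r) : orderOf (π y) = r := by
  haveI : Fact r.Prime := ⟨hr.prime⟩
  refine orderOf_eq_prime ?_ ?_
  · rw [← map_pow, ← hy, pow_orderOf_eq_one, map_one]
  · intro h
    have := ker_one σ hσ π hker hr he h (by rw [← hy]; exact pow_orderOf_eq_one y)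
    rw [this, orderOf_one] at hy
    exact hr.prime.one_lt.ne hy

/-- elements of order `r` in a subgroup with cyclic Sylow `r`-subgroups have fixed spaces of the same dimension. -/
theorem dim_eq (σ : X →* Matrix.GeneralLinearGroup ι F) (hσ : Function.Injective σ) (π : X →* T)
    (hπ : Function.Surjective π) (hker : ∀ k : X, π k = 1 → ∃ a : F, (σ k : Matrix ι ι F) = a • 1) {r e : ℕ}
    (hr : Prim (Nat.card F) e r) (he : 2 ≤ e) {y₁ y₂ : X} (h1 : orderOf y₁ = r) (h2 : orderOf y₂ = r)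
    (R : Subgroup T) (hR : Cyc r R) (hm1 : π y₁ ∈ R) (hm2 : π y₂ ∈ R) :
    finrank F (K (lin σ y₁)) = finrank F (K (lin σ y₂)) := by
  haveI : Fact r.Prime := ⟨hr.prime⟩
  haveI : Finite T := Finite.of_surjective π hπ
  have hk1 : ∀ k : X, π k = 1 → k ^ r = 1 → k = 1 := fun k => ker_one σ hσ π hker hr he
  have hord : ∀ {y : X}, orderOf y = r → orderOf (π y) = r := fun {y} => orderOf_pi σ hσ π hker hr he
  obtain ⟨c, j, hc⟩ := hR.exists_conj (a := ⟨π y₁, hm1⟩) (b := ⟨π y₂, hm2⟩)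
    (by rw [Subgroup.orderOf_mk, hord h1]) (by rw [Subgroup.orderOf_mk, hord h2])
  have hc' : π y₂ = (c : T) * (π y₁) ^ j * (c : T)⁻¹ := congrArg Subtype.val hc
  obtain ⟨h, hh⟩ := hπ (c : T)
  have h3 : π y₂ = π (h * y₁ ^ j * h⁻¹) := by
    rw [map_mul, map_mul, map_inv, map_zpow, hh, hc']
  -- the difference is a scalar
  set y := h * y₁ ^ j * h⁻¹ with hy
  have h4 : π (y₂ * y⁻¹) = 1 := by rw [map_mul, map_inv, ← h3, mul_inv_cancel]
  have hyr : y ^ r = 1 := by
    rw [hy, conj_pow, ← zpow_natCast, ← zpow_mul, mul_comm, zpow_mul, zpow_natCast, ← h1, pow_orderOf_eq_one, one_zpow,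
      mul_one, mul_inv_cancel]
  have h5 : y₂ * y⁻¹ = 1 := by
    refine hk1 _ h4 ?_
    obtain ⟨a, ha⟩ := hker _ h4
    have hcomm : Commute (y₂ * y⁻¹) y := by
      have h6 : σ (y₂ * y⁻¹) * σ y = σ y * σ (y₂ * y⁻¹) := by
        apply Units.ext
        rw [Units.val_mul, Units.val_mul, ha, smul_mul_assoc, one_mul, mul_smul_comm, mul_one]
      rw [← map_mul, ← map_mul] at h6
      exact hσ h6
    have h7 : (y₂ * y⁻¹ * y) ^ r = 1 := by
      rw [inv_mul_cancel_right, ← h2, pow_orderOf_eq_one]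
    rw [hcomm.mul_pow, hyr, mul_one] at h7
    exact h7
  have h6 : y₂ = y := mul_inv_eq_one.1 h5
  rw [h6, hy, finrank_K_conj]
  have h7 : orderOf (y₁ ^ j) = r := by
    have h8 : orderOf y = r := by rw [← h6, h2]
    rw [← h8, hy]
    exact (orderOf_injective (MulAut.conj h).toMonoidHom (MulAut.conj h).injective (y₁ ^ j)).symm
  -- `y₁` is a power of `y₁ ^ j`
  have h8 : y₁ ∈ Subgroup.zpowers (y₁ ^ j) := by
    have h9 : Subgroup.zpowers (y₁ ^ j) = Subgroup.zpowers y₁ :=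
      Subgroup.eq_of_le_of_card_ge (by rw [Subgroup.zpowers_le]; exact ⟨j, rfl⟩)
        (by rw [Nat.card_zpowers, Nat.card_zpowers, h7, h1])
    rw [h9]
    exact Subgroup.mem_zpowers y₁
  obtain ⟨i, hi⟩ := h8
  apply le_antisymm
  · exact Submodule.finrank_mono (K_zpow_le (lin σ) y₁ j)
  · have h9 : K (lin σ (y₁ ^ j)) ≤ K (lin σ y₁) := by
      have h10 := K_zpow_le (lin σ) (y₁ ^ j) i
      rwa [show (y₁ ^ j) ^ i = y₁ from hi] at h10
    exact Submodule.finrank_mono h9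

/-- **A subgroup with cyclic Sylow `r`-subgroups misses a class of elements of order `r`** under a set `A` of
automorphisms preserving the dimensions of fixed spaces. -/
theorem exists_of_two (σ : X →* Matrix.GeneralLinearGroup ι F) (hσ : Function.Injective σ) (π : X →* T)
    (hπ : Function.Surjective π) (hker : ∀ k : X, π k = 1 → ∃ a : F, (σ k : Matrix ι ι F) = a • 1) {r e : ℕ}
    (hr : Prim (Nat.card F) e r) (he : 2 ≤ e) {y₁ y₂ : X} (h1 : orderOf y₁ = r) (h2 : orderOf y₂ = r)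
    (hne : finrank F (K (lin σ y₁)) ≠ finrank F (K (lin σ y₂))) (A : MulAut T → Prop)
    (hA : ∀ α, A α → ∀ y : X, orderOf y = r → ∃ y' : X, orderOf y' = r ∧ α (π y) = π y' ∧
      finrank F (K (lin σ y')) = finrank F (K (lin σ y))) (R : Subgroup T) (hR : Cyc r R) :
    ∃ x : T, (orderOf x).Prime ∧ ∀ α : MulAut T, A α → α x ∉ R := by
  by_contra hcon
  push Not at hcon
  obtain ⟨α, hα, hαR⟩ := hcon (π y₁) (by rw [orderOf_pi σ hσ π hker hr he h1]; exact hr.prime)
  obtain ⟨β, hβ, hβR⟩ := hcon (π y₂) (by rw [orderOf_pi σ hσ π hker hr he h2]; exact hr.prime)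
  obtain ⟨z₁, hz₁, hz₁', hd₁⟩ := hA α hα y₁ h1
  obtain ⟨z₂, hz₂, hz₂', hd₂⟩ := hA β hβ y₂ h2
  apply hne
  rw [← hd₁, ← hd₂]
  exact dim_eq σ hσ π hπ hker hr he hz₁ hz₂ R hR (by rw [← hz₁']; exact hαR) (by rw [← hz₂']; exact hβR)

/-- the same, from the orders. -/
theorem exists_of_cyc (σ : X →* Matrix.GeneralLinearGroup ι F) (hσ : Function.Injective σ) (π : X →* T)
    (hπ : Function.Surjective π) (hker : ∀ k : X, π k = 1 → ∃ a : F, (σ k : Matrix ι ι F) = a • 1) {r e b : ℕ}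
    (hr : Prim (Nat.card F) e r) (he : 2 ≤ e) (hdim : Fintype.card ι < 3 * e)
    (hb : r ^ b ∣ Nat.card X) (hb' : ¬ r ^ b ∣ Nat.card F ^ (2 * e) - 1) (A : MulAut T → Prop)
    (hA : ∀ α, A α → ∀ y : X, orderOf y = r → ∃ y' : X, orderOf y' = r ∧ α (π y) = π y' ∧
      finrank F (K (lin σ y')) = finrank F (K (lin σ y))) (R : Subgroup T) (hR : Cyc r R) :
    ∃ x : T, (orderOf x).Prime ∧ ∀ α : MulAut T, A α → α x ∉ R := by
  haveI : Fact r.Prime := ⟨hr.prime⟩
  obtain ⟨y₁, y₂, h1, h2, hne⟩ := Two.exists_two (lin σ) (lin_injective hσ) (ordd_of_prim hr) (cast_ne_zero' hr)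
    (by rw [Module.finrank_fintype_fun_eq_card]; exact hdim) hb hb'
  exact exists_of_two σ hσ π hπ hker hr he h1 h2 hne A hA R hR

end

theorem full_of_not_der {T : Type*} [Group T] [Finite T] {R : Subgroup T} (h : ¬ Der T R) : Full T R := by
  by_contra hcon
  have h1 : H264.FKS.Miss R := exists_of_not_full hcon
  obtain ⟨r, h2, h3, h4⟩ := h1
  exact h (H396.der_of_prime h2 h3 h4)

/-! ### Orthogonal groups -/

section Orth

variable {F : Type} [Field F] [Fintype F] {ι : Type} [Fintype ι] [DecidableEq ι] {Q : QuadraticForm F (ι → F)}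

theorem finrank_K_semi (c : GL ι F) (τ : F ≃+* F) (g : GL ι F) :
    finrank F (K (H884.El.lin (c * mp τ g * c⁻¹))) = finrank F (K (H884.El.lin g)) := by
  have h1 := finrank_K_add g
  have h2 := finrank_K_add (c * mp τ g * c⁻¹)
  rw [finrank_cm_semi] at h2
  omega

/-- the inclusion of `Ω(Q)` in the linear group -/
def sg (Q : QuadraticForm F (ι → F)) : Omega F (⇑Q) →* Matrix.GeneralLinearGroup ι F :=
  (isometryGroup F (⇑Q)).subtype.comp (Omega F (⇑Q)).subtype

theorem sg_injective (Q : QuadraticForm F (ι → F)) : Function.Injective (sg Q) :=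
  (Subgroup.subtype_injective _).comp (Subgroup.subtype_injective _)

theorem lin_sg (Q : QuadraticForm F (ι → F)) (y : Omega F (⇑Q)) :
    lin (sg Q) y = H884.El.lin (((y : isometryGroup F (⇑Q)) : GL ι F)) := by
  ext v
  rfl

theorem semi_lift (hD : H390.Lift.Data Q) {r : ℕ} (hr : r.Prime) (hr2 : r ≠ 2) {α : MulAut (POmega F (⇑Q))}
    (hα : Semi (⇑Q) α) {y : Omega F (⇑Q)} (hy : orderOf y = r) :
    ∃ y' : Omega F (⇑Q), orderOf y' = r ∧
      α (QuotientGroup.mk' (Subgroup.center (Omega F (⇑Q))) y) = QuotientGroup.mk' _ y' ∧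
      finrank F (K (lin (sg Q) y')) = finrank F (K (lin (sg Q) y)) := by
  haveI : Fact r.Prime := ⟨hr⟩
  obtain ⟨c, τ, hc, hind⟩ := hα
  have hyr : y ^ r = 1 := by rw [← hy]; exact pow_orderOf_eq_one y
  have hyg : ((y : isometryGroup F (⇑Q)) : GL ι F) ^ r = 1 := congrArg (fun z : Omega F (⇑Q) =>
    ((z : isometryGroup F (⇑Q)) : GL ι F)) hyr
  have h1 := conj_mem_isometry hc (y : isometryGroup F (⇑Q)).2
  have h2 : (c * mp τ ((y : isometryGroup F (⇑Q)) : GL ι F) * c⁻¹) ^ r = 1 := by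
    rw [conj_pow, ← map_pow, hyg, map_one, mul_one, mul_inv_cancel]
  obtain ⟨z, hz⟩ := H884.El.exists_omega hD h1 (hr.odd_of_ne_two hr2) h2
  refine ⟨z, ?_, ?_, ?_⟩
  · apply orderOf_eq_prime
    · apply sg_injective Q
      rw [map_pow, map_one]
      have h6 : sg Q z = c * mp τ ((y : isometryGroup F (⇑Q)) : GL ι F) * c⁻¹ := hz
      rw [h6, h2]
    · intro h
      rw [h] at hz
      have h3 : c * mp τ ((y : isometryGroup F (⇑Q)) : GL ι F) * c⁻¹ = 1 := hz.symm
      have h4 := mp_injective τ ((conj_eq_one_iff.1 h3).trans (map_one (mp τ)).symm)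
      have h5 : y = 1 := Subtype.ext (Subtype.ext h4)
      rw [h5, orderOf_one] at hy
      exact hr.one_lt.ne hy
  · exact hind y z (by rw [hz, Units.val_mul, Units.val_mul, coe_mp])
  · rw [lin_sg, lin_sg, hz, finrank_K_semi]

theorem derS_pomega {n r : ℕ} (hD : H390.Lift.Data Q)
    (hQ : (QuadraticMap.polarBilin Q).Nondegenerate) (h3 : 3 ≤ Fintype.card ι) (hs : ∃ u : ι → F, u ≠ 0 ∧ Q u = 0)
    (hr : Prim (Nat.card F) n r) (hn : 2 ≤ n) (hdim : Fintype.card ι < 3 * n) {b : ℕ}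
    (hb : r ^ b ∣ Nat.card (POmega F (⇑Q))) (hb' : ¬ r ^ b ∣ Nat.card F ^ (2 * n) - 1)
    (R : Subgroup (POmega F (⇑Q))) (hR : Cyc r R) : DerS (⇑Q) R := by
  refine exists_of_cyc (sg Q) (sg_injective Q) (QuotientGroup.mk' (Subgroup.center (Omega F (⇑Q))))
    (QuotientGroup.mk'_surjective _) (fun k hk => ?_) hr hn hdim (hb.trans (Subgroup.card_quotient_dvd_card _)) hb'
    (Semi (⇑Q)) (fun α hα y hy => ?_) R hR
  · have h1 := (QuotientGroup.eq_one_iff k).1 hk
    rcases (LieClassical.OmegaCenter.mem_center_omega_iff Q hQ h3 hs k).1 h1 with h2 | h2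
    · exact ⟨1, by rw [one_smul]; exact h2⟩
    · exact ⟨-1, by rw [neg_one_smul]; exact h2⟩
  · refine semi_lift hD hr.prime ?_ hα hy
    have := lt_of_prim hr
    omega

end Orth

theorem semi_odd {F : Type} [Field F] [Fintype F] {m : ℕ} (hm : 3 ≤ m) (h2 : (2 : F) ≠ 0)
    (α : MulAut (POmega F (quadFormOdd m F))) : Semi (quadFormOdd m F) α :=
  H198.OrthGamma.exists_pair (AutOrth.Main.all_odd hm h2 α)

theorem semi_plus {F : Type} [Field F] [Fintype F] {m : ℕ} (hm : 5 ≤ m)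
    (α : MulAut (POmega F (quadFormPlus m F))) : Semi (quadFormPlus m F) α :=
  H198.OrthGamma.exists_pair (AutOrth.Main.all_plus hm α)

theorem semi_minus {F : Type} [Field F] [Fintype F] {m : ℕ} (hm : 3 ≤ m) {a b : F}
    (hab : ∀ z₁ z₂ : F, z₁ ^ 2 + a * z₁ * z₂ + b * z₂ ^ 2 = 0 → z₁ = 0 ∧ z₂ = 0)
    (α : MulAut (POmega F (quadFormMinus m F a b))) : Semi (quadFormMinus m F a b) α :=
  H198.OrthGamma.exists_pair (AutOrth.Main.all_minus hm hab α)

/-- `Ω_{2n+1}(q)` -/
theorem der_named_oodd {T : Type u} [Group T] {n q r : ℕ} (hT : IsNamed (.oodd n q) T) (hr : Prim q n r) (hn : 3 ≤ n)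
    (he : n % 2 = 0) (R : Subgroup T) (hR : Cyc r R) : Der T R := by
  have hc : 2 * Nat.card T = q ^ (n ^ 2) * prB q n := hT.eq
  obtain ⟨F, _, _, hF, ⟨Φ⟩⟩ := hT.real
  have h5 := lt_of_prim hr
  have hq : 2 ≤ q := by rw [← hF]; exact Fintype.one_lt_card
  obtain ⟨b, hb, hb'⟩ := exists_pow hr (by omega) hq (fun h => by have := Nat.le_of_dvd (by norm_num) h; omega) hc
    ((prod_dvd (by omega) he).mul_left _)
  rw [Nat.card_congr Φ.toEquiv] at hb
  have h2 : (2 : F) ≠ 0 := H390.two_ne_zero_of_odd (by rw [hF]; exact hT.cond.2.1)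
  rw [← hF, ← Nat.card_eq_fintype_card] at hr hb'
  have h1 : Cyc r (R.comap Φ.symm.toMonoidHom) := by
    refine hR.of_injective ((Φ.symm.toMonoidHom.comp (R.comap Φ.symm.toMonoidHom).subtype).codRestrict R
      fun x => x.2) fun x y hxy => ?_
    exact Subtype.ext (Φ.symm.injective (congrArg Subtype.val hxy))
  have hcard : Fintype.card (Unit ⊕ (Fin n ⊕ Fin n)) = 2 * n + 1 := by simp; ring
  have key : ∀ (R : Subgroup (POmega F (⇑(quadOdd n F)))), r ^ b ∣ Nat.card (POmega F (⇑(quadOdd n F))) → Cyc r R →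
      DerS (⇑(quadOdd n F)) R := fun R hb hR =>
    derS_pomega (H884.El.data_odd hn h2) (quadOdd_nondegenerate h2) (by rw [hcard]; omega)
      (quadOdd_isotropic (by omega)) hr (by omega) (by rw [hcard]; omega) hb hb' R hR
  rw [coe_quadOdd] at key
  exact ((key _ hb h1).der (semi_odd hn h2)).congr Φ.symm

/-- `PΩ^+_{2n}(q)` -/
theorem derS_plus {F : Type} [Field F] [Fintype F] {n r : ℕ} (hr : Prim (Nat.card F) n r) (hn : 4 ≤ n)
    (he : n % 2 = 0) (R : Subgroup (POmega F (quadFormPlus n F))) (hR : Cyc r R) : DerS (quadFormPlus n F) R := by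
  have hT := named_oplus F hn
  have hc : Nat.gcd 4 (Fintype.card F ^ n - 1) * Nat.card (POmega F (quadFormPlus n F)) =
    Fintype.card F ^ (n * (n - 1)) * ((Fintype.card F ^ n - 1) * prB (Fintype.card F) (n - 1)) := hT.eq
  have h5 := lt_of_prim hr
  rw [← Nat.card_eq_fintype_card] at hc
  have hq : 2 ≤ Nat.card F := Finite.one_lt_card
  obtain ⟨b, hb, hb'⟩ := exists_pow hr (by omega) hq (fun h => by
    have := Nat.le_of_dvd (by norm_num) (h.trans (Nat.gcd_dvd_left _ _)); omega) hc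
    (Dvd.dvd.mul_left (Nat.mul_dvd_mul_left _ (by
      rw [prB_eq]
      have h6 := Finset.dvd_prod_of_mem (fun i => Nat.card F ^ (2 * (i + 1)) - 1)
        (Finset.mem_range.mpr (by omega : n / 2 - 1 < n - 1))
      rwa [show 2 * (n / 2 - 1 + 1) = n by omega] at h6)) _)
  have hcard : Fintype.card (Fin n ⊕ Fin n) = 2 * n := by simp; ring
  have key : ∀ (R : Subgroup (POmega F (⇑(quadPlus n F)))), r ^ b ∣ Nat.card (POmega F (⇑(quadPlus n F))) → Cyc r R →
      DerS (⇑(quadPlus n F)) R := fun R hb hR =>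
    derS_pomega (H884.El.data_plus hn) quadPlus_nondegenerate (by rw [hcard]; omega) (quadPlus_isotropic (by omega)) hr
      (by omega) (by rw [hcard]; omega) hb hb' R hR
  rw [coe_quadPlus] at key
  exact key _ hb hR

theorem cyc_comap {T S : Type*} [Group T] [Group S] {r : ℕ} {R : Subgroup T} (hR : Cyc r R) (Φ : S ≃* T) :
    Cyc r (R.comap Φ.toMonoidHom) := by
  refine hR.of_injective ((Φ.toMonoidHom.comp (R.comap Φ.toMonoidHom).subtype).codRestrict R
    fun x => x.2) fun x y hxy => ?_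
  exact Subtype.ext (Φ.injective (congrArg Subtype.val hxy))

theorem der_named_oplus {T : Type u} [Group T] {n q r : ℕ} (hT : IsNamed (.oplus n q) T) (hr : Prim q n r)
    (hn : 5 ≤ n) (he : n % 2 = 0) (R : Subgroup T) (hR : Cyc r R) : Der T R := by
  obtain ⟨F, _, _, hF, ⟨Φ⟩⟩ := hT.real
  rw [← hF, ← Nat.card_eq_fintype_card] at hr
  exact ((derS_plus hr (by omega) he _ (cyc_comap hR Φ.symm)).der (semi_plus hn)).congr Φ.symm

end Cfsg.Agent.H304.Ela
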