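import Cfsg.Agent.H278.ElDefs
import Cfsg.Agent.UGT.End.MEleven

/-!
# S3553: reduction to the socle (helper304)
-/

set_option autoImplicit false
set_option linter.style.haveILetI false
set_option linter.unusedSectionVars false

namespace Cfsg.Agent.H304.Ela

open MulAction Subgroup Cfsg.Agent.H396 Cfsg.Agent.H278.El

universe u v

/-- `H` meets every class of elements of prime order -/
def Elus {G : Type*} [Group G] (H : Subgroup G) : Prop :=
  ∀ x : G, (orderOf x).Prime → ∃ g : G, g * x * g⁻¹ ∈ H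

/-- the almost simple statement for the socle `T` -/
def AS (T : Type u) [Group T] : Prop :=
  ∀ (G : Type u) [Group G] [Finite G] (N : Subgroup G) [N.Normal] (_ : N ≃* T)
    (_ : Subgroup.centralizer (N : Set G) = ⊥) (H : Subgroup G), ¬ N ≤ H → Elus H →
    Nat.card G = 12 * Nat.card H ∧ (Nat.card G = 7920 ∨ Nat.card G = 720)

/-- `S3553` from the almost simple statement -/
theorem s3553_of {G : Type u} {Ω : Type v} [Group G] [Finite G] [MulAction G Ω] [FaithfulSMul G Ω] [Finite Ω]
    (T : Subgroup G) (hT : T.Normal) (hTs : IsSimpleGroup ↥T)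
    (hTc : Subgroup.centralizer (T : Set G) = ⊥) (hAS : AS T)
    (htrans : MulAction.IsPretransitive G Ω) (helus : ∀ g : G, (orderOf g).Prime → ∃ ω : Ω, g • ω = ω) :
    Nat.card Ω = 12 ∧ (Nat.card G = 7920 ∨ Nat.card G = 720) := by
  obtain ⟨t₀, ht₀⟩ := exists_ne (1 : T)
  have hne : Nonempty Ω := by
    by_contra hn
    rw [not_nonempty_iff] at hn
    apply ht₀
    apply Subtype.ext
    exact FaithfulSMul.eq_of_smul_eq_smul (α := Ω) fun a => (hn.false a).elim
  obtain ⟨ω⟩ := hne
  have h1 : ¬ T ≤ stabilizer G ω := by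
    intro hle
    apply ht₀
    apply Subtype.ext
    refine FaithfulSMul.eq_of_smul_eq_smul (α := Ω) fun a => ?_
    obtain ⟨g, rfl⟩ := exists_smul_eq G ω a
    have h2 : g⁻¹ * (t₀ : G) * g ∈ stabilizer G ω := hle (by
      simpa using hT.conj_mem (t₀ : G) t₀.2 g⁻¹)
    rw [mem_stabilizer_iff] at h2
    rw [Subgroup.coe_one, one_smul]
    calc (t₀ : G) • g • ω = g • ((g⁻¹ * (t₀ : G) * g) • ω) := by
          rw [smul_smul, smul_smul]
          congr 1
          group
      _ = g • ω := by rw [h2]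
  have h2 : Elus (stabilizer G ω) := by
    intro x hx
    obtain ⟨a, ha⟩ := helus x hx
    obtain ⟨g, rfl⟩ := exists_smul_eq G ω a
    refine ⟨g⁻¹, ?_⟩
    rw [mem_stabilizer_iff, inv_inv, mul_smul, mul_smul, ha, inv_smul_smul]
  obtain ⟨h3, h4⟩ := hAS G T (MulEquiv.refl T) hTc (stabilizer G ω) h1 h2
  refine ⟨?_, h4⟩
  have h5 : (stabilizer G ω).index = Nat.card Ω := MulAction.index_stabilizer_of_transitive G ω
  have h6 := (stabilizer G ω).index_mul_card
  have h7 : 0 < Nat.card (stabilizer G ω) := Nat.card_pos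
  rw [h3, h5] at h6
  exact Nat.eq_of_mul_eq_mul_right h7 h6

section

variable {G : Type u} [Group G] {N : Subgroup G} [N.Normal] {H : Subgroup G} {T : Type v} [Group T]

/-- conjugation as an automorphism of `T` -/
def cjn (e : N ≃* T) : G →* MulAut T where
  toFun g := (e.symm.trans (MulAut.conjNormal g)).trans e
  map_one' := by
    ext x
    simp
  map_mul' g h := by
    ext x
    simp

theorem cjn_apply (e : N ≃* T) (g : G) (x : T) : cjn e g x = e (MulAut.conjNormal g (e.symm x)) := rfl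

theorem cjn_mem (e : N ≃* T) (n : N) : cjn e (n : G) = MulAut.conj (e n) := by
  ext x
  rw [cjn_apply]
  have h : MulAut.conjNormal (n : G) (e.symm x) = n * e.symm x * n⁻¹ := by
    apply Subtype.ext
    rw [MulAut.conjNormal_apply]
    rfl
  rw [h]
  simp

theorem cjn_injective (e : N ≃* T) (hC : Subgroup.centralizer (N : Set G) = ⊥) : Function.Injective (cjn e) := by
  rw [injective_iff_map_eq_one]
  intro g hg
  have h1 : g ∈ Subgroup.centralizer (N : Set G) := by
    rw [Subgroup.mem_centralizer_iff]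
    intro n hn
    have h2 := DFunLike.congr_fun hg (e ⟨n, hn⟩)
    rw [cjn_apply, MulEquiv.symm_apply_apply] at h2
    have h3 := e.injective h2
    have h4 := congrArg Subtype.val h3
    rw [MulAut.conjNormal_apply] at h4
    have h5 : g * n * g⁻¹ = n := h4
    exact (mul_inv_eq_iff_eq_mul.1 h5).symm
  rw [hC] at h1
  exact h1

/-- the subgroup `H ∩ N` transported to `T` -/
def tr (e : N ≃* T) (H : Subgroup G) : Subgroup T := (H.subgroupOf N).map e.toMonoidHom

theorem mem_tr (e : N ≃* T) {x : T} : x ∈ tr e H ↔ ((e.symm x : N) : G) ∈ H := by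
  constructor
  · rintro ⟨y, hy, rfl⟩
    have : e.symm (e.toMonoidHom y) = y := e.symm_apply_apply y
    rw [this]
    exact hy
  · intro h
    exact ⟨e.symm x, h, e.apply_symm_apply x⟩

theorem tr_ne_top (e : N ≃* T) (h : ¬ N ≤ H) : tr e H ≠ ⊤ := by
  intro ht
  apply h
  intro n hn
  have h1 : e ⟨n, hn⟩ ∈ tr e H := by rw [ht]; trivial
  rw [mem_tr, MulEquiv.symm_apply_apply] at h1
  exact h1

theorem exists_cjn_mem (e : N ≃* T) (hE : Elus H) {x : T} (hx : (orderOf x).Prime) :
    ∃ g : G, cjn e g x ∈ tr e H := by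
  have h1 : orderOf ((e.symm x : N) : G) = orderOf x := by
    rw [Subgroup.orderOf_coe, MulEquiv.orderOf_eq]
  obtain ⟨g, hg⟩ := hE ((e.symm x : N) : G) (by rwa [h1])
  refine ⟨g, ?_⟩
  rw [mem_tr, cjn_apply, MulEquiv.symm_apply_apply, MulAut.conjNormal_apply]
  exact hg

theorem not_der (e : N ≃* T) (hE : Elus H) : ¬ Der T (tr e H) := by
  rintro ⟨x, hx, h⟩
  obtain ⟨g, hg⟩ := exists_cjn_mem e hE hx
  exact h (cjn e g) hg

/-- `H` normalises `H ∩ N` -/
theorem cjn_tr (e : N ≃* T) {h : G} (hh : h ∈ H) {x : T} (hx : x ∈ tr e H) : cjn e h x ∈ tr e H := by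
  rw [mem_tr] at hx ⊢
  rw [cjn_apply, MulEquiv.symm_apply_apply, MulAut.conjNormal_apply]
  exact H.mul_mem (H.mul_mem hh hx) (H.inv_mem hh)

end

/-- the socles with `ClMaxA` -/
theorem AS.of_clMaxA {T : Type u} [Group T] [Finite T] (h : ClMaxA T) : AS T := by
  intro G _ _ N _ e hC H hNH hE
  exact (not_der e hE (h.der _ (tr_ne_top e hNH))).elim

/-- `M11` -/
theorem AS.m11 {T : Type u} [Group T] [Finite T] (h : Cfsg.Spor.IsoM11 T) (hcl : ClT T)
    (hcard : Nat.card T = 7920) : AS T := by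
  intro G _ _ N _ e hC H hNH hE
  have h1 : ∀ g : G, ∃ n : N, cjn e g = cjn e (n : G) := by
    intro g
    obtain ⟨t, ht⟩ := Cfsg.Agent.UGT.End.MEleven.inner h (cjn e g)
    refine ⟨e.symm t, ?_⟩
    rw [ht, cjn_mem, MulEquiv.apply_symm_apply]
  have hN : N = ⊤ := by
    rw [eq_top_iff]
    intro g _
    obtain ⟨n, hn⟩ := h1 g
    rw [cjn_injective e hC hn]
    exact n.2
  have hnd : ¬ DerT T (tr e H) := by
    rintro ⟨x, hx, h2⟩
    obtain ⟨g, hg⟩ := exists_cjn_mem e hE hx
    obtain ⟨n, hn⟩ := h1 g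
    rw [hn, cjn_mem] at hg
    exact h2 (e n) hg
  rcases hcl _ (tr_ne_top e hNH) with h3 | ⟨-, h3, -⟩
  · exact absurd h3 hnd
  · have h4 : Nat.card G = 7920 := by
      rw [← hcard, ← Nat.card_congr e.toEquiv, hN, Nat.card_congr Subgroup.topEquiv.toEquiv]
    have h5 : Nat.card (tr e H) = Nat.card H := by
      rw [tr, Subgroup.card_map_of_injective e.injective]
      subst hN
      exact Nat.card_congr (Subgroup.subgroupOfEquivOfLe le_top).toEquiv
    rw [← h5, h3, h4]
    exact ⟨rfl, Or.inl rfl⟩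

end Cfsg.Agent.H304.Ela
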