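import Cfsg.Agent.H884.ElO8
import Cfsg.Agent.H304.Ela.Red
import Cfsg.Prelude.Def_LieTypeDatum

/-!
# Semilinear versions of the geometric rows for the orthogonal groups (helper304, for S3553)

* `Semi Q α` : the automorphism `α` of `PΩ(Q)` is induced by a semisimilarity;
* `DerS Q M` : some element of prime order of `PΩ(Q)` has no image in `M` under the automorphisms with `Semi`.
-/

set_option autoImplicit false
set_option linter.unusedSectionVars false

namespace Cfsg.Agent.H304.Ela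

open Module QuadraticMap Cfsg Cfsg.Geo Cfsg.Agent.LieClassical.OrthCore Cfsg.Agent.H955 Cfsg.Agent.H954.TSing
open Cfsg.Agent.H951 (fx cm Inv)
open Cfsg.Agent.H884.El
open scoped MatrixGroups Matrix

universe u v

section gen

variable {ι : Type} [Fintype ι] [DecidableEq ι] {F : Type u} [Field F]

/-- induced by a semisimilarity -/
def Semi (Q : (ι → F) → F) (α : MulAut (POmega F Q)) : Prop :=
  ∃ (g : GL ι F) (σ : F ≃+* F), IsSemisimilarityPair Q g σ ∧ IsInducedBySemilinearPOmega Q g σ α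

/-- some element of prime order of `PΩ(Q)` has no semilinear image in `M` -/
def DerS (Q : (ι → F) → F) (M : Subgroup (POmega F Q)) : Prop :=
  ∃ x : POmega F Q, (orderOf x).Prime ∧ ∀ α : MulAut (POmega F Q), Semi Q α → α x ∉ M

/-- the matrix with the field automorphism applied to the entries -/
def mp (σ : F ≃+* F) : GL ι F →* GL ι F := Matrix.GeneralLinearGroup.map (σ : F →+* F)

theorem coe_mp (σ : F ≃+* F) (g : GL ι F) : ((mp σ g : GL ι F) : Matrix ι ι F) = (g : Matrix ι ι F).map σ := rfl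

theorem mp_injective (σ : F ≃+* F) : Function.Injective (mp (ι := ι) σ) := by
  intro a b h
  apply Units.ext
  have h1 := congrArg (fun x : GL ι F => (x : Matrix ι ι F)) h
  simp only [coe_mp] at h1
  ext i j
  have h2 := congrFun (congrFun h1 i) j
  exact σ.injective h2

theorem mulVec_mp (σ : F ≃+* F) (g : GL ι F) (v : ι → F) :
    ((mp σ g : GL ι F) : Matrix ι ι F) *ᵥ (fun i => σ (v i)) = fun i => σ (((g : Matrix ι ι F) *ᵥ v) i) := by
  ext i
  rw [coe_mp]
  simp [Matrix.mulVec, dotProduct, map_sum, map_mul]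

theorem derS_of_der {Q : (ι → F) → F} {M : Subgroup (POmega F Q)} (h : H396.Der (POmega F Q) M) : DerS Q M := by
  obtain ⟨x, hx, h2⟩ := h
  exact ⟨x, hx, fun α _ => h2 α⟩

theorem DerS.der {Q : (ι → F) → F} {M : Subgroup (POmega F Q)} (h : DerS Q M) (hA : ∀ α, Semi Q α) :
    H396.Der (POmega F Q) M := by
  obtain ⟨x, hx, h2⟩ := h
  exact ⟨x, hx, fun α => h2 α (hA α)⟩

theorem DerS.mono {Q : (ι → F) → F} {M K : Subgroup (POmega F Q)} (h : DerS Q K) (hMK : M ≤ K) : DerS Q M := by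
  obtain ⟨x, hx, h2⟩ := h
  exact ⟨x, hx, fun α hα hm => h2 α hα (hMK hm)⟩

/-- a semisimilarity conjugates isometries to isometries -/
theorem conj_mem_isometry {Q : (ι → F) → F} {c : GL ι F} {σ : F ≃+* F} (hc : IsSemisimilarityPair Q c σ)
    {g : GL ι F} (hg : g ∈ isometryGroup F Q) : c * mp σ g * c⁻¹ ∈ isometryGroup F Q := by
  obtain ⟨l, hl⟩ := hc
  have hgQ := LieClassical.OrthFinite.mem_isometryGroup_iff.1 hg
  rw [LieClassical.OrthFinite.mem_isometryGroup_iff]
  intro w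
  obtain ⟨v, rfl⟩ : ∃ v : ι → F, (c : Matrix ι ι F) *ᵥ (fun i => σ (v i)) = w := by
    refine ⟨fun i => σ.symm ((((c⁻¹ : GL ι F) : Matrix ι ι F) *ᵥ w) i), ?_⟩
    simp only [RingEquiv.apply_symm_apply]
    rw [Matrix.mulVec_mulVec, ← Units.val_mul, mul_inv_cancel, Units.val_one, Matrix.one_mulVec]
  have h1 : ((c * mp σ g * c⁻¹ : GL ι F) : Matrix ι ι F) *ᵥ ((c : Matrix ι ι F) *ᵥ (fun i => σ (v i))) =
      (c : Matrix ι ι F) *ᵥ (fun i => σ (((g : Matrix ι ι F) *ᵥ v) i)) := by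
    rw [Matrix.mulVec_mulVec, ← Units.val_mul, inv_mul_cancel_right, Units.val_mul, ← Matrix.mulVec_mulVec, mulVec_mp]
  rw [h1, hl, hl, hgQ]

theorem finrank_cm_mp [Fintype F] (σ : F ≃+* F) (g : GL ι F) :
    finrank F (cm (lin (mp σ g))) = finrank F (cm (lin g)) := by
  have h1 : Nat.card (cm (lin (mp σ g))) = Nat.card (cm (lin g)) := by
    symm
    refine Nat.card_congr (Equiv.subtypeEquiv (Equiv.piCongrRight fun _ => σ.toEquiv) fun v => ?_)
    have hv : (Equiv.piCongrRight fun _ : ι => σ.toEquiv) v = fun i => σ (v i) := rfl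
    rw [hv]
    change v ∈ cm (lin g) ↔ (fun i => σ (v i)) ∈ cm (lin (mp σ g))
    rw [H951.mem_cm, H951.mem_cm]
    constructor
    · rintro ⟨w, hw⟩
      refine ⟨fun i => σ (w i), ?_⟩
      rw [← hw, lin, Matrix.toLin'_apply, mulVec_mp, lin, Matrix.toLin'_apply]
      ext i
      simp
    · rintro ⟨w, hw⟩
      refine ⟨fun i => σ.symm (w i), ?_⟩
      rw [lin, Matrix.toLin'_apply] at hw ⊢
      have h2 : w = fun i => σ ((fun i => σ.symm (w i)) i) := by ext i; simp
      rw [h2, mulVec_mp] at hw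
      ext i
      have h3 := congrFun hw i
      apply σ.injective
      rw [← h3]
      simp
  have h2 := Module.natCard_eq_pow_finrank (K := F) (V := cm (lin (mp σ g)))
  have h3 := Module.natCard_eq_pow_finrank (K := F) (V := cm (lin g))
  rw [h1, h3] at h2
  exact (Nat.pow_right_injective Finite.one_lt_card h2).symm

end gen

section quad

variable {ι : Type} [Fintype ι] [DecidableEq ι] {F : Type u} [Field F] [Fintype F] {Q : QuadraticForm F (ι → F)}
  {M : Subgroup (POmega F (⇑Q))}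

theorem exists_conjS (hD : H390.Lift.Data Q) (hM : ¬ DerS (⇑Q) M) {g : GL ι F}
    (hg : g ∈ isometryGroup F (⇑Q)) {r : ℕ} (hr : r.Prime) (hr2 : r ≠ 2) (hgr : g ^ r = 1) (hg1 : g ≠ 1) :
    ∃ (c : GL ι F) (σ : F ≃+* F), c * mp σ g * c⁻¹ ∈ pre (⇑Q) M := by
  obtain ⟨x, rfl⟩ := exists_omega hD hg (hr.odd_of_ne_two hr2) hgr
  have hx : x ^ r = 1 := Subtype.ext (Subtype.ext hgr)
  have hx1 : x ≠ 1 := by
    rintro rfl
    exact hg1 rfl
  have hM' : ∃ α : MulAut (POmega F (⇑Q)), Semi (⇑Q) α ∧ α (QuotientGroup.mk' _ x) ∈ M := by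
    by_contra hcon
    push Not at hcon
    exact hM ⟨QuotientGroup.mk' _ x, by rw [orderOf_mk hD hr hr2 hx hx1]; exact hr, hcon⟩
  obtain ⟨α, ⟨c, σ, hc, hind⟩, hα⟩ := hM'
  have h1 := conj_mem_isometry hc hg
  have h2 : (c * mp σ ((x : isometryGroup F (⇑Q)) : GL ι F) * c⁻¹) ^ r = 1 := by
    rw [conj_pow, ← map_pow, hgr, map_one, mul_one, mul_inv_cancel]
  obtain ⟨y, hy⟩ := exists_omega hD h1 (hr.odd_of_ne_two hr2) h2
  refine ⟨c, σ, ?_⟩
  rw [← hy]
  apply mem_pre.2
  have h3 : α (QuotientGroup.mk x) = QuotientGroup.mk y := by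
    apply hind
    rw [hy, Units.val_mul, Units.val_mul, coe_mp]
  rw [← show α (QuotientGroup.mk' _ x) = QuotientGroup.mk' _ y from h3]
  exact hα

theorem finrank_cm_semi (c : GL ι F) (σ : F ≃+* F) (g : GL ι F) :
    finrank F (cm (lin (c * mp σ g * c⁻¹))) = finrank F (cm (lin g)) := by
  rw [finrank_cm_conj, finrank_cm_mp]

/-- **Odd dimension**, classes. -/
theorem odd_derS {m : ℕ} (h2F : (2 : F) ≠ 0) (hm : 3 ≤ m) (hn : Fintype.card ι = 2 * m + 1) (hQ : Nondeg Q)
    (hD : H390.Lift.Data Q) (M : Subgroup (POmega F (⇑Q))) :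
    DerS (⇑Q) M ∨ InOrthogonalResidualClass (pre (⇑Q) M) := by
  by_cases hM : DerS (⇑Q) M
  · exact Or.inl hM
  right
  rcases odd_miss h2F hm hn hQ hD M with h | h | ⟨hme, v, hv, hMv, hP⟩
  · exact absurd (derS_of_der h.derA) hM
  · exact h
  · exfalso
    have hq := one_lt_q F
    have hq2 : Nat.card F ≠ 2 := by
      intro h
      apply h2F
      have h5 : ((Fintype.card F : ℕ) : F) = 0 := FiniteField.cast_card_eq_zero F
      rw [← Nat.card_eq_fintype_card, h] at h5
      exact_mod_cast h5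
    have hm4 : 4 ≤ m := by
      obtain ⟨k, hk⟩ := hme
      omega
    obtain ⟨r, hr⟩ := exists_pp (q := Nat.card F) (e := m) (by omega) hm (by omega)
    obtain ⟨g, hg, hgr, hg1, hgd⟩ := exists_g (A := 2) hQ hr hme (by omega) (by omega) (Or.inr ⟨h2F, by omega⟩)
    have hr2 : r ≠ 2 := by have := hr.lt (by omega); omega
    obtain ⟨c, σ, hc⟩ := exists_conjS hD hM hg hr.prime hr2 hgr hg1
    have hcr : (c * mp σ g * c⁻¹) ^ r = 1 := by rw [conj_pow, ← map_pow, hgr, map_one, mul_one, mul_inv_cancel]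
    have hx : lin (c * mp σ g * c⁻¹) ^ r = 1 := by rw [← H251.GeoCard.toLin_pow, hcr]; exact lin_one
    have hiso : Iso Q (lin (c * mp σ g * c⁻¹)) r := Iso.mk' hr (by omega) hx (lin_iso pre_le hc)
    have hd : finrank F (cm (lin (c * mp σ g * c⁻¹))) = m * 2 := by rw [finrank_cm_semi, hgd]
    have hPl := hiso.even_two hQ hr hme hd
    have hadd := hiso.finrank_add
    rw [finrank_V] at hadd
    have hv0 : v ≠ 0 := by
      rintro rfl
      exact hv (QuadraticMap.map_zero Q)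
    have hs1 := finrank_span_singleton (K := F) hv0
    have hle := hiso.le_fx hr (inv_of_mem (hMv hc)) (by omega)
    have heq : Submodule.span F {v} = fx (lin (c * mp σ g * c⁻¹)) :=
      Submodule.eq_of_le_of_finrank_eq hle (by omega)
    rw [heq, perp_fx hQ hiso.iso hiso.ne0 hiso.pow] at hP
    exact hP hPl

/-- the stabiliser of a nonsingular point misses the class of a fixed-point-free isometry. -/
theorem plus_pointS {m : ℕ} (hm : 4 ≤ m) (hn : Fintype.card ι = 2 * m) (hQ : Nondeg Q) (hP : IsPlus Q) (hme : Even m)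
    (hD : H390.Lift.Data Q) {M : Subgroup (POmega F (⇑Q))} {v : ι → F} (hv : v ≠ 0)
    (hMv : pre (⇑Q) M ≤ subspaceStabilizer (Submodule.span F {v})) : DerS (⇑Q) M := by
  by_contra hM
  obtain ⟨r, e, hr, he, g, hg, hgr, hg1, hgd⟩ := exists_fpf hm hn hQ hP hme
  have hr2 : r ≠ 2 := by have := hr.lt (by omega); omega
  obtain ⟨c, σ, hc⟩ := exists_conjS hD hM hg hr.prime hr2 hgr hg1
  have hcr : (c * mp σ g * c⁻¹) ^ r = 1 := by rw [conj_pow, ← map_pow, hgr, map_one, mul_one, mul_inv_cancel]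
  have hx : lin (c * mp σ g * c⁻¹) ^ r = 1 := by rw [← H251.GeoCard.toLin_pow, hcr]; exact lin_one
  have hiso : Iso Q (lin (c * mp σ g * c⁻¹)) r := Iso.mk' hr (by omega) hx (lin_iso pre_le hc)
  have hd : finrank F (cm (lin (c * mp σ g * c⁻¹))) = 2 * m := by rw [finrank_cm_semi, hgd]
  have hadd := hiso.finrank_add
  rw [finrank_V] at hadd
  have hs1 := finrank_span_singleton (K := F) hv
  have hle := hiso.le_fx hr (inv_of_mem (hMv hc)) (by omega)
  have := Submodule.finrank_mono hle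
  omega

/-- **Plus type**, classes. -/
theorem plus_derS {m : ℕ} (hm : 4 ≤ m) (hn : Fintype.card ι = 2 * m) (hQ : Nondeg Q) (hP : IsPlus Q)
    (hexc : ¬ (Nat.card F = 2 ∧ m = 4)) (hD : H390.Lift.Data Q) (M : Subgroup (POmega F (⇑Q))) :
    DerS (⇑Q) M ∨ InOrthogonalResidualClass (pre (⇑Q) M) := by
  rcases plus_miss hm hn hQ hP hexc hD M with h | h | ⟨hme, v, hv, hMv⟩
  · exact Or.inl (derS_of_der h.derA)
  · exact Or.inr h
  · refine Or.inl (plus_pointS hm hn hQ hP hme hD ?_ hMv)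
    rintro rfl
    exact hv (QuadraticMap.map_zero Q)

/-- **`PΩ⁺₈(2)`**. -/
theorem eight_derS (hF : Nat.card F = 2) (hn : Fintype.card ι = 8) (hQ : Nondeg Q) (hP : IsPlus Q)
    (hD : H390.Lift.Data Q) (M : Subgroup (POmega F (⇑Q))) :
    DerS (⇑Q) M ∨ InOrthogonalResidualClass (pre (⇑Q) M) := by
  by_cases hM : DerS (⇑Q) M
  · exact Or.inl hM
  right
  have hMiss : ¬ Miss M := fun h => hM (derS_of_der h.derA)
  have hP7 : PP (Nat.card F) 3 7 := by
    rw [hF]
    refine ⟨by norm_num, ?_⟩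
    have : Fact (Nat.Prime 3) := ⟨Nat.prime_three⟩
    exact orderOf_eq_prime (by decide) (by decide)
  have hP5 : PP (Nat.card F) 4 5 := by
    rw [hF]
    refine ⟨by norm_num, ?_⟩
    have : Fact (Nat.Prime 2) := ⟨Nat.prime_two⟩
    rw [show (4 : ℕ) = 2 ^ (1 + 1) by norm_num]
    exact orderOf_eq_prime_pow (by decide) (by decide)
  have hev : Even (Fintype.card ι) := by rw [hn]; decide
  have hhit : Hits (pre (⇑Q) M) 3 := hits_of hD hMiss (by omega) fun r hr => by
    obtain ⟨g, h1, h2, h3, -⟩ := exists_g_odd (A := 1) hQ hr (by decide) (by omega) le_rfl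
      (Or.inl ⟨hev, Or.inl (by omega)⟩)
    exact ⟨g, h1, h2, h3⟩
  refine row_eight hF hn hQ pre_le (hhit 7 hP7) ?_ ?_
  · obtain ⟨g, hg, hg5, hg1, hgd⟩ := exists_g (A := 1) hQ hP5 (by decide) (by omega) le_rfl
      (Or.inl ⟨hev, Or.inl (by omega)⟩)
    obtain ⟨c, σ, hc⟩ := exists_conjS hD hM hg hP5.prime (by omega) hg5 hg1
    refine ⟨_, hc, by rw [conj_pow, ← map_pow, hg5, map_one, mul_one, mul_inv_cancel], ?_,
      by rw [finrank_cm_semi, hgd]⟩
    intro h
    exact hg1 (mp_injective σ (by rw [conj_eq_one_iff.1 h, map_one]))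
  · obtain ⟨g, hg, hg5, hg1, hgd⟩ := exists_g (A := 2) hQ hP5 (by decide) (by omega) (by omega)
      (Or.inl ⟨hev, Or.inr ⟨by omega, iff_of_true hP (by decide)⟩⟩)
    obtain ⟨c, σ, hc⟩ := exists_conjS hD hM hg hP5.prime (by omega) hg5 hg1
    refine ⟨_, hc, by rw [conj_pow, ← map_pow, hg5, map_one, mul_one, mul_inv_cancel], ?_,
      by rw [finrank_cm_semi, hgd]⟩
    intro h
    exact hg1 (mp_injective σ (by rw [conj_eq_one_iff.1 h, map_one]))

end quad

end Cfsg.Agent.H304.Ela
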