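import Cfsg.Agent.H304.Ela.Psp

/-!
# Socles of Lie type in the defining characteristic, automorphism version (helper304, for S3553)

After `H264/FKS/TwoRows`, `TwoSix`, `Char` (helper264).
-/

set_option autoImplicit false
set_option linter.unusedSectionVars false
set_option linter.style.haveILetI false

namespace Cfsg.Agent.H304.Ela

open Cfsg Cfsg.Agent.OrdDiv Cfsg.Agent.H436 Cfsg.Agent.H915.GN Cfsg.Agent.H264.GN Cfsg.Agent.H200.LinFix Module
  Cfsg.Agent.LieClassical.OmegaReindex Cfsg.Agent.H264.FKS Cfsg.Agent.H902 Cfsg.Agent.H902.Names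
open Cfsg.Agent.H396 (Der)

universe u v

/-- the automorphism version of the characteristic `p` row -/
def CharRowA (p : ℕ) (T : Type u) [Group T] : Prop :=
  ∀ R : Subgroup T, R ≠ ⊤ → ∀ S : Subgroup R, S.Normal → IsSimpleGroup S → ¬ IsMulCommutative S →
    Subgroup.centralizer (S : Set R) = ⊥ → ∀ g, IsNamed g S → HasChar p g → Der T R

theorem charRowA_of_M {p : ℕ} {T : Type u} [Group T] [Finite T] (h : CharRowM p T) : CharRowA p T := by
  intro R hR S h1 h2 h3 h4 g h5 h6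
  obtain ⟨r, h7, h8, h9⟩ := h R hR S h1 h2 h3 h4 g h5 h6
  exact H396.der_of_prime h7 h8 h9

variable {p f n r : ℕ} {g : Grp} {T : Type u} [Group T] [Finite T] {R : Subgroup T}

/-- **`T = PSp_{2n}(q)`, `n ≥ 3`.** -/
theorem der_psp' (hT : IsNamed (.psp n (p ^ f)) T) (hp : p.Prime) (hf : 1 ≤ f) (hn : 3 ≤ n)
    (hex1 : ¬ (p = 2 ∧ f * (2 * n) = 6)) (hex2 : ¬ (p = 2 ∧ f * (2 * (n - 1)) = 6)) (h6 : ¬ (n = 6 ∧ p ^ f = 2))
    (hR : R ≠ ⊤)
    (S : Subgroup R) [S.Normal] [IsSimpleGroup S] (hna : ¬ IsMulCommutative S)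
    (hC : Subgroup.centralizer (S : Set R) = ⊥) (hS : IsNamed g S) (hch : HasChar p g) : Der T R := by
  by_contra hcon
  obtain ⟨he, hg⟩ := full_psp hT hp hf hn hex1 hex2 hR (full_of_not_der hcon) S hna hC hS hch
  obtain ⟨r, hr, hlt⟩ := exists_big hp hf hn (by
    rintro ⟨rfl, h⟩
    have hn' : 4 ≤ n := by omega
    have : f * 4 ≤ f * n := Nat.mul_le_mul_left _ hn'
    obtain rfl : f = 1 := by omega
    exact h6 ⟨by omega, rfl⟩)
  exact hcon (der_named_psp hT hr (by omega) (Or.inl hn) he R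
    (cyc_four S hna hC (Or.inl hg) hS hp hf hr hlt hn he))

/-- **`T = Ω_{2n+1}(q)`, `n ≥ 3`.** -/
theorem der_oodd' (hT : IsNamed (.oodd n (p ^ f)) T) (hp : p.Prime) (hf : 1 ≤ f) (hn : 3 ≤ n) (hR : R ≠ ⊤)
    (S : Subgroup R) [S.Normal] [IsSimpleGroup S] (hna : ¬ IsMulCommutative S)
    (hC : Subgroup.centralizer (S : Set R) = ⊥) (hS : IsNamed g S) (hch : HasChar p g) : Der T R := by
  by_contra hcon
  obtain ⟨he, hg⟩ := full_oodd hT hp hf hn hR (full_of_not_der hcon) S hna hC hS hch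
  obtain ⟨r, hr, hlt⟩ := exists_big hp hf hn (by
    rintro ⟨rfl, h⟩
    have := hT.cond.2.1
    rw [Nat.odd_pow_iff (by omega)] at this
    exact absurd this (by decide))
  exact hcon (der_named_oodd hT hr (by omega) he R (cyc_four S hna hC (Or.inl hg) hS hp hf hr hlt hn he))

/-- **`T = PΩ^+_{2n}(q)`, `n ≥ 5`.** -/
theorem der_oplus' (hT : IsNamed (.oplus n (p ^ f)) T) (hp : p.Prime) (hf : 1 ≤ f) (hn : 5 ≤ n)
    (hex1 : ¬ (p = 2 ∧ f * (2 * (n - 1)) = 6)) (hex2 : ¬ (p = 2 ∧ f * (2 * (n - 2)) = 6)) (h6 : ¬ (n = 6 ∧ p ^ f = 2))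
    (hR : R ≠ ⊤)
    (S : Subgroup R) [S.Normal] [IsSimpleGroup S] (hna : ¬ IsMulCommutative S)
    (hC : Subgroup.centralizer (S : Set R) = ⊥) (hS : IsNamed g S) (hch : HasChar p g) : Der T R := by
  by_contra hcon
  obtain ⟨he, hg⟩ := full_oplus hT hp hf (by omega) hex1 hex2 hR (full_of_not_der hcon) S hna hC hS hch
  obtain ⟨r, hr, hlt⟩ := exists_big hp hf (n := n) (by omega) (by
    rintro ⟨rfl, h⟩
    have : f * 4 ≤ f * n := Nat.mul_le_mul_left _ (by omega)
    obtain rfl : f = 1 := by omega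
    exact h6 ⟨by omega, rfl⟩)
  exact hcon (der_named_oplus hT hr (by omega) he R
    (cyc_four S hna hC (Or.inr hg) hS hp hf hr hlt (by omega) he))

/-- **`T = PSp_{2n}(q)`, `n ≥ 3`**, `(n, q) ≠ (3, 2), (4, 2)`. -/
theorem der_psp_all (hT : IsNamed (.psp n (p ^ f)) T) (hp : p.Prime) (hf : 1 ≤ f) (hn : 3 ≤ n)
    (hex : ¬ (p ^ f = 2 ∧ n ≤ 4)) (hR : R ≠ ⊤)
    (S : Subgroup R) [S.Normal] [IsSimpleGroup S] (hna : ¬ IsMulCommutative S)
    (hC : Subgroup.centralizer (S : Set R) = ⊥) (hS : IsNamed g S) (hch : HasChar p g) : Der T R := by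
  have key : ∀ k, 2 ≤ k → k ≤ n → n ≤ k + 1 → ¬ (p = 2 ∧ f * (2 * k) = 6) := by
    rintro k hk hkn hkn' ⟨rfl, h⟩
    have h1 : f * k = 3 := by
      have : f * (2 * k) = 2 * (f * k) := by ring
      omega
    have h2 : k ∣ 3 := ⟨f, by rw [← h1, mul_comm]⟩
    have h3 := Nat.le_of_dvd (by norm_num) h2
    interval_cases k
    · omega
    · obtain rfl : f = 1 := by omega
      exact hex ⟨rfl, by omega⟩
  by_cases h6 : n = 6 ∧ p ^ f = 2
  · obtain ⟨rfl, h6⟩ := h6
    have hp2 : p = 2 := by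
      have : p ∣ 2 := by rw [← h6]; exact dvd_pow_self p (by omega)
      exact (Nat.prime_dvd_prime_iff_eq hp Nat.prime_two).1 this
    subst hp2
    have hf1 : f = 1 := by
      have : (2 : ℕ) ^ f = 2 ^ 1 := h6
      exact Nat.pow_right_injective le_rfl this
    subst hf1
    by_contra hcon
    obtain ⟨-, hg⟩ := full_psp hT hp hf hn (key 6 (by norm_num) le_rfl (by norm_num))
      (key 5 (by norm_num) (by norm_num) (by norm_num)) hR (full_of_not_der hcon) S hna hC hS hch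
    exact hcon (der_named_six_symp hT R (cyc_six S hna hC (Or.inl hg) hS))
  · exact der_psp' hT hp hf hn (key n (by omega) le_rfl (by omega)) (key (n - 1) (by omega) (by omega) (by omega)) h6
      hR S hna hC hS hch

/-- **`T = PΩ^+_{2n}(q)`, `n ≥ 5`**, `(n, q) ≠ (5, 2)`. -/
theorem der_oplus_all (hT : IsNamed (.oplus n (p ^ f)) T) (hp : p.Prime) (hf : 1 ≤ f) (hn : 5 ≤ n)
    (hex : ¬ (p ^ f = 2 ∧ n ≤ 5)) (hR : R ≠ ⊤)
    (S : Subgroup R) [S.Normal] [IsSimpleGroup S] (hna : ¬ IsMulCommutative S)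
    (hC : Subgroup.centralizer (S : Set R) = ⊥) (hS : IsNamed g S) (hch : HasChar p g) : Der T R := by
  have key : ∀ k, 2 ≤ k → k + 1 ≤ n → n ≤ k + 2 → ¬ (p = 2 ∧ f * (2 * k) = 6) := by
    rintro k hk hkn hkn' ⟨rfl, h⟩
    have h1 : f * k = 3 := by
      have : f * (2 * k) = 2 * (f * k) := by ring
      omega
    have h2 : k ∣ 3 := ⟨f, by rw [← h1, mul_comm]⟩
    have h3 := Nat.le_of_dvd (by norm_num) h2
    interval_cases k
    · omega
    · obtain rfl : f = 1 := by omega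
      exact hex ⟨rfl, by omega⟩
  by_cases h6 : n = 6 ∧ p ^ f = 2
  · obtain ⟨rfl, h6⟩ := h6
    have hp2 : p = 2 := by
      have : p ∣ 2 := by rw [← h6]; exact dvd_pow_self p (by omega)
      exact (Nat.prime_dvd_prime_iff_eq hp Nat.prime_two).1 this
    subst hp2
    have hf1 : f = 1 := by
      have : (2 : ℕ) ^ f = 2 ^ 1 := h6
      exact Nat.pow_right_injective le_rfl this
    subst hf1
    by_contra hcon
    obtain ⟨-, hg⟩ := full_oplus hT hp hf (by omega) (key 5 (by norm_num) (by norm_num) (by norm_num))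
      (key 4 (by norm_num) (by norm_num) (by norm_num)) hR (full_of_not_der hcon) S hna hC hS hch
    exact hcon (der_named_six_plus hT R (cyc_six S hna hC (Or.inr hg) hS))
  · exact der_oplus' hT hp hf hn (key (n - 1) (by omega) (by omega) (by omega))
      (key (n - 2) (by omega) (by omega) (by omega)) h6 hR S hna hC hS hch

theorem charRowA_psp {q : ℕ} (hp : p.Prime) (hpq : p ∣ q) (hT : IsNamed (.psp n q) T) (hn : 3 ≤ n)
    (h2 : ¬ (q = 2 ∧ n ≤ 4)) : CharRowA p T := by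
  obtain ⟨f, hf, rfl⟩ := exists_pf hp hT.cond.2.2 hpq
  intro R hR S h1 h2' h3 h4' g h5 h6
  exact der_psp_all hT hp hf hn h2 hR S h3 h4' h5 h6

theorem charRowA_oodd {q : ℕ} (hp : p.Prime) (hpq : p ∣ q) (hT : IsNamed (.oodd n q) T) : CharRowA p T := by
  obtain ⟨f, hf, rfl⟩ := exists_pf hp hT.cond.2.2 hpq
  intro R hR S h1 h2' h3 h4' g h5 h6
  exact der_oodd' hT hp hf hT.cond.1 hR S h3 h4' h5 h6

theorem charRowA_oplus {q : ℕ} (hp : p.Prime) (hpq : p ∣ q) (hT : IsNamed (.oplus n q) T) (hn : 5 ≤ n)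
    (h2 : ¬ (q = 2 ∧ n ≤ 5)) : CharRowA p T := by
  obtain ⟨f, hf, rfl⟩ := exists_pf hp hT.cond.2 hpq
  intro R hR S h1 h2' h3 h4' g h5 h6
  exact der_oplus_all hT hp hf hn h2 hR S h3 h4' h5 h6

/-- **`PΩ^+_8(q)`, `q > 2`**, semilinear version -/
theorem derS_four {F : Type} [Field F] [Fintype F] (hF : Fintype.card F = p ^ f) (hp : p.Prime) (hf : 1 ≤ f)
    (h2 : p ^ f ≠ 2) {R : Subgroup (POmega F (quadFormPlus 4 F))} (hR : R ≠ ⊤)
    (S : Subgroup R) [S.Normal] [IsSimpleGroup S] (hna : ¬ IsMulCommutative S)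
    (hC : Subgroup.centralizer (S : Set R) = ⊥) (hS : IsNamed g S) (hch : HasChar p g) :
    DerS (quadFormPlus 4 F) R := by
  by_contra hcon
  have hcon' : ¬ Der (POmega F (quadFormPlus 4 F)) R := fun h => hcon (derS_of_der h)
  have hT := named_oplus F (n := 4) le_rfl
  rw [hF] at hT
  have key : ∀ k, 2 ≤ k → k ≤ 3 → ¬ (p = 2 ∧ f * (2 * k) = 6) := by
    rintro k hk hkn ⟨rfl, h⟩
    have h1 : f * k = 3 := by
      have : f * (2 * k) = 2 * (f * k) := by ring
      omega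
    interval_cases k
    · omega
    · obtain rfl : f = 1 := by omega
      exact h2 rfl
  obtain ⟨he, hg⟩ := full_oplus hT hp hf le_rfl (key 3 (by norm_num) le_rfl) (key 2 le_rfl (by norm_num)) hR
    (full_of_not_der hcon') S hna hC hS hch
  obtain ⟨r, hr, hlt⟩ := exists_big hp hf (n := 4) (by omega) (by
    rintro ⟨rfl, h⟩
    omega)
  refine hcon (derS_plus (by rw [Nat.card_eq_fintype_card, hF]; exact hr) le_rfl rfl R
    (cyc_four S hna hC (Or.inr hg) hS hp hf hr hlt (by omega) rfl))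

end Cfsg.Agent.H304.Ela
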